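import Groth.Agent.L28.AR.Chain
import Mathlib.CategoryTheory.Limits.Constructions.FiniteProductsOfBinaryProducts

/-!
Kernels, cokernels, and the category of adic systems with Noetherian components.
-/

set_option autoImplicit false

universe w v u

open CategoryTheory CategoryTheory.Limits Opposite

namespace Groth.L28.AR

open Groth.L28.Elt

variable {C : Type u} [Category.{v} C] [Abelian C] {A : Type w} [CommRing A] [Linear A C] {J : Ideal A}

theorem isARIso_of_isIso {X Y : ARSys.PS C} (f : X ⟶ Y) [IsIso f] : ARSys.IsARIso f :=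
  (isARIso_iff_elem f).2 ⟨0, fun n x hx => by
      rw [show x = 0 from app_inj f (n + 0) (by rw [hx, map_zero]), map_zero],
    fun n y => app_surj f n _⟩

theorem existsUnique_lift {W Y' Y : ARSys.PS C} {w : Y' ⟶ Y} (hw : ARSys.IsARIso w)
    (hW : ARSys.IsAdic J W) (kY' : ARSys.TermKilled J Y') (f : W ⟶ Y) :
    ∃! g : W ⟶ Y', g ≫ w = f := by
  obtain ⟨r, ψ, hψ⟩ := exists_isInv hw
  obtain ⟨g, hg, -⟩ := existsUnique_hom_of_shift hW kY' r ((ARSys.shift C r).map f ≫ hψ.hom)
  have hg' : ∀ n, f.app (op (n + r)) ≫ ψ n = ARSys.tr W (Nat.le_add_right n r) ≫ g.app (op n) := hg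
  refine ⟨g, hom_ext' fun n => ?_, fun g' hg'' => hom_ext' fun n => ?_⟩ <;>
    (haveI : Epi (ARSys.tr W (Nat.le_add_right n r)) := adic_strict hW _ _ _;
     rw [← cancel_epi (ARSys.tr W (Nat.le_add_right n r))])
  · rw [NatTrans.comp_app, ← Category.assoc, ← hg']
    refine Groth.L28.Elt.hom_ext fun y => ?_
    rw [ev_comp, ev_comp, hψ.2.1, ev_comp, ← app_tr]
  · rw [← hg', ← hg'']
    refine Groth.L28.Elt.hom_ext fun y => ?_
    rw [ev_comp, ev_comp, NatTrans.comp_app, ev_comp, hψ.1, app_tr]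

theorem sES_kernel {P Q : ARSys.PS C} (u : P ⟶ Q) :
    (ShortComplex.mk (kernel.ι u) (Abelian.factorThruImage u)
      (by rw [← cancel_mono (Abelian.image.ι u), Category.assoc, Abelian.image.fac, kernel.condition,
        zero_comp])).ShortExact := by
  let φ : ShortComplex.mk (kernel.ι u) (Abelian.factorThruImage u)
      (by rw [← cancel_mono (Abelian.image.ι u), Category.assoc, Abelian.image.fac, kernel.condition,
        zero_comp]) ⟶ ShortComplex.mk (kernel.ι u) u (kernel.condition u) :=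
    { τ₁ := 𝟙 _, τ₂ := 𝟙 _, τ₃ := Abelian.image.ι u }
  haveI : Epi φ.τ₁ := inferInstanceAs (Epi (𝟙 _))
  haveI : IsIso φ.τ₂ := inferInstanceAs (IsIso (𝟙 _))
  haveI : Mono φ.τ₃ := inferInstanceAs (Mono (Abelian.image.ι u))
  exact ⟨(ShortComplex.exact_iff_of_epi_of_isIso_of_mono φ).2
    (ShortComplex.exact_of_f_is_kernel _ (kernelIsKernel u))⟩

theorem sES_cokernel {P Q : ARSys.PS C} (u : P ⟶ Q) :
    (ShortComplex.mk (Abelian.image.ι u) (cokernel.π u)
      (by rw [← cancel_epi (Abelian.factorThruImage u), ← Category.assoc, Abelian.image.fac,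
        cokernel.condition, comp_zero])).ShortExact := by
  let φ : ShortComplex.mk u (cokernel.π u) (cokernel.condition u) ⟶
      ShortComplex.mk (Abelian.image.ι u) (cokernel.π u)
      (by rw [← cancel_epi (Abelian.factorThruImage u), ← Category.assoc, Abelian.image.fac,
        cokernel.condition, comp_zero]) :=
    { τ₁ := Abelian.factorThruImage u, τ₂ := 𝟙 _, τ₃ := 𝟙 _ }
  haveI : Epi φ.τ₁ := inferInstanceAs (Epi (Abelian.factorThruImage u))
  haveI : IsIso φ.τ₂ := inferInstanceAs (IsIso (𝟙 _))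
  haveI : Mono φ.τ₃ := inferInstanceAs (Mono (𝟙 _))
  exact ⟨(ShortComplex.exact_iff_of_epi_of_isIso_of_mono φ).1
    (ShortComplex.exact_of_g_is_cokernel _ (cokernelIsCokernel u))⟩

theorem strict_image {P Q : ARSys.PS C} (u : P ⟶ Q) (hP : ARSys.IsStrict P) :
    ARSys.IsStrict (Abelian.image u) := strict_of_surj fun a b hab y => by
  obtain ⟨x, rfl⟩ := app_surj (Abelian.factorThruImage u) a y
  obtain ⟨x', rfl⟩ := strict_surj hP hab x
  exact ⟨_, (app_tr (Abelian.factorThruImage u) hab x').symm⟩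

theorem arAdic_of_strict_sub [IsNoetherianRing A] {I Q : ARSys.PS C} (f : I ⟶ Q) [Mono f]
    (hI : ARSys.IsStrict I) (hQ : ARSys.IsAdicNoeth J Q) : ARSys.IsARAdic J I := by
  have hA : ARSys.IsAdapted J I := by
    refine (isAdapted_iff I).2 fun n p hp a ha x hx => app_inj f n ?_
    rw [ev_act, map_zero]
    refine adapted_kill (adic_adapted hQ.1) (q := n + 1 - p) (by omega) ha ?_
    rcases Nat.eq_zero_or_pos (n + 1 - p) with h0 | h0
    · rw [h0]; exact mem_top _
    · obtain ⟨k, hk⟩ : ∃ k, n + 1 - p = k + 1 := ⟨n - p, by omega⟩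
      rw [hk, mem_Fsub_succ _ (by omega : k ≤ n)] at hx ⊢
      rw [← app_tr, hx, map_zero]
  refine arAdic_of_grsFiniteType (Or.inl (IsNoetherian.noetherian J)) I hI hA ?_
  intro M hM hmono hlub
  let N : ℕ → (q : ℕ) → Subobject (Q.obj (op q)) := fun i q => img (f.app (op q)) (M i q)
  have hN : ∀ i, ARSys.IsGrSub J Q (N i) := by
    intro i
    refine (mem_isGrSub _).2 ⟨fun q => le_iff'.2 fun y hy => ?_, fun e q a ha z hz => ?_⟩
    · obtain ⟨x, hx, rfl⟩ := (mem_img _ _ _).1 hy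
      have hxF := le_iff.1 ((hM i).1 q) hx
      rcases q with _ | k
      · exact mem_top _
      · rw [mem_Fsub_succ _ (Nat.le_succ k)] at hxF ⊢
        rw [← app_tr, hxF, map_zero]
    · obtain ⟨x, hx, hxz⟩ := (mem_img _ _ _).1 hz
      obtain ⟨x', rfl⟩ := strict_surj hI (Nat.le_add_left q e) x
      refine (mem_img _ _ _).2 ⟨act a x', ((mem_isGrSub _).1 (hM i)).2 e q a ha x' hx, ?_⟩
      have h0 : act a (ev (f.app (op (e + q))) x' - z) = 0 :=
        adapted_kill (adic_adapted hQ.1) (q := q + 1) (by omega) ha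
          ((mem_Fsub_succ Q (Nat.le_add_left q e) _).2 (by rw [map_sub, ← app_tr, hxz, sub_self]))
      rw [map_sub, sub_eq_zero] at h0
      rw [ev_act, h0]
  have hNm : Monotone N := fun i j h q => le_iff'.2 fun y hy => by
    obtain ⟨x, hx, rfl⟩ := (mem_img _ _ _).1 hy
    exact (mem_img _ _ _).2 ⟨x, le_iff.1 (hmono h q) hx, rfl⟩
  obtain ⟨i₀, hi₀⟩ := noetherian_const_gr (IsNoetherian.noetherian J) hQ.1 (hQ.2 0) N hN hNm
  refine ⟨i₀, fun q => le_antisymm ((hM i₀).1 q) ((hlub q).2 ?_)⟩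
  rintro _ ⟨i, rfl⟩
  rcases le_total i i₀ with h | h
  · exact hmono h q
  · refine le_iff'.2 fun x hx => ?_
    have hx' : ev (f.app (op q)) x ∈ elts (N i q) := (mem_img _ _ _).2 ⟨x, hx, rfl⟩
    rw [hi₀ i h] at hx'
    obtain ⟨x', hx', he⟩ := (mem_img _ _ _).1 hx'
    rwa [← app_inj f q he]

theorem arAdic_kernel_of_adic [IsNoetherianRing A] {P Q : ARSys.PS C} (u : P ⟶ Q)
    (hP : ARSys.IsAdicNoeth J P) (hQ : ARSys.IsAdicNoeth J Q) : ARSys.IsARAdic J (kernel u) := by
  have hI : ARSys.IsARAdic J (Abelian.image u) :=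
    arAdic_of_strict_sub (Abelian.image.ι u) (strict_image u (adic_strict hP.1)) hQ
  have hK : ARSys.IsMLAR (kernel u) :=
    isMLAR_X₁ (sES_kernel u) hP.1.1 (isMLAR_of_strict (adic_strict hP.1)) hI
  obtain ⟨K', e, he, hK', heI⟩ := exists_strict_arIso hK
  haveI : Mono (e ≫ kernel.ι u) := mono_comp e _
  exact isARAdic_of_arIso_from (killed_mono (kernel.ι u) hP.1.1) heI
    (arAdic_of_strict_sub (e ≫ kernel.ι u) hK' hP)

theorem adic_cokernel_of_adic {P Q : ARSys.PS C} (u : P ⟶ Q) (hP : ARSys.IsStrict P)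
    (hQ : ARSys.IsAdic J Q) : ARSys.IsAdic J (cokernel u) :=
  isAdic_X₃ (sES_cokernel u) (strict_image u hP) hQ

theorem exists_adicNoeth_model [IsNoetherianRing A] {X : ARSys.PS C} (h : ARSys.IsARAdicNoeth J X) :
    ∃ (Y : ARSys.PS C) (v : Y ⟶ X), ARSys.IsAdicNoeth J Y ∧ ARSys.IsARIso v := by
  obtain ⟨⟨-, Y, v, hY, hv⟩, hn⟩ := h
  obtain ⟨r, ψ, hψ⟩ := exists_isInv hv
  haveI : Epi (ψ 0) := epi_iff.2 fun y => by
    obtain ⟨y', rfl⟩ := strict_surj (adic_strict hY) (Nat.le_add_right 0 r) y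
    exact ⟨_, hψ.1 0 y'⟩
  haveI := hn (0 + r)
  exact ⟨Y, v, ⟨hY, noetherian_of_adic hY (noetherian_of_epi (ψ 0))⟩, hv⟩

theorem isARIso_kernel_map {X Y X' Y' : ARSys.PS C} {u : X ⟶ Y} {g : X' ⟶ Y'} {v : X' ⟶ X}
    {w : Y' ⟶ Y} (hv : ARSys.IsARIso v) (hw : ARSys.IsARIso w) (h : g ≫ w = v ≫ u) :
    ARSys.IsARIso (kernel.map g u v w h) := by
  obtain ⟨r, ψ, hψ⟩ := exists_isInv hv
  obtain ⟨t, ht, -⟩ := (isARIso_iff_elem w).1 hw
  refine (isARIso_iff_elem _).2 ⟨t + r, fun n k hk => app_inj (kernel.ι g) n ?_, fun n k => ?_⟩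
  · have h1 : ev (v.app (op (n + (t + r)))) (ev ((kernel.ι g).app (op (n + (t + r)))) k) = 0 := by
      rw [← ev_comp, ← NatTrans.comp_app]
      rw [show kernel.ι g ≫ v = kernel.map g u v w h ≫ kernel.ι u from (kernel.lift_ι _ _ _).symm,
        NatTrans.comp_app, ev_comp, hk, map_zero]
    have h2 := hψ.1 n (ev (ARSys.tr X' (show n + r ≤ n + (t + r) by omega)) (ev ((kernel.ι g).app (op (n + (t + r)))) k))
    rw [app_tr, h1, map_zero, map_zero, tr_tr] at h2
    rw [app_tr, ← h2, map_zero]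
  · let x := ev (ARSys.tr X (show n + t + r ≤ n + (t + r) by omega)) (ev ((kernel.ι u).app (op (n + (t + r)))) k)
    let x' := ev (ψ (n + t)) x
    have hgx : ev (ARSys.tr Y' (Nat.le_add_right n t)) (ev (g.app (op (n + t))) x') = 0 := by
      refine ht n _ ?_
      rw [← ev_comp, ← NatTrans.comp_app, h, NatTrans.comp_app, ev_comp, hψ.2.1, tr_tr, ← app_tr]
      exact (kernel_app u _ _).2 ⟨_, rfl⟩
    rw [← app_tr] at hgx
    obtain ⟨k', hk'⟩ := (kernel_app g _ _).1 hgx
    refine ⟨k', app_inj (kernel.ι u) n ?_⟩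
    rw [← ev_comp, ← NatTrans.comp_app, show kernel.map g u v w h ≫ kernel.ι u = kernel.ι g ≫ v from
      kernel.lift_ι _ _ _, NatTrans.comp_app, ev_comp, hk', app_tr, hψ.2.1, tr_tr, tr_tr, app_tr]

theorem isARIso_cokernel_map {X Y X' Y' : ARSys.PS C} {u : X ⟶ Y} {g : X' ⟶ Y'} {v : X' ⟶ X}
    {w : Y' ⟶ Y} (hv : ARSys.IsARIso v) (hw : ARSys.IsARIso w) (h : g ≫ w = v ≫ u) :
    ARSys.IsARIso (cokernel.map g u v w h) := by
  obtain ⟨r, ψ, hψ⟩ := exists_isInv hv
  obtain ⟨t, ht, ht'⟩ := (isARIso_iff_elem w).1 hw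
  have hmap : ∀ n y, ev ((cokernel.map g u v w h).app (op n)) (ev ((cokernel.π g).app (op n)) y) =
      ev ((cokernel.π u).app (op n)) (ev (w.app (op n)) y) := fun n y => by
    rw [← ev_comp, ← NatTrans.comp_app, show cokernel.π g ≫ cokernel.map g u v w h = w ≫ cokernel.π u from
      cokernel.π_desc _ _ _, NatTrans.comp_app, ev_comp]
  refine (isARIso_iff_elem _).2 ⟨t + r, fun n q hq => ?_, fun n q => ?_⟩
  · obtain ⟨y', rfl⟩ := app_surj (cokernel.π g) _ q
    rw [hmap, cokernel_app] at hq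
    obtain ⟨x, hx⟩ := hq
    let x' := ev (ψ (n + t)) (ev (ARSys.tr X (show n + t + r ≤ n + (t + r) by omega)) x)
    have h1 := ht n (ev (ARSys.tr Y' (show n + t ≤ n + (t + r) by omega)) y' - ev (g.app (op (n + t))) x')
      (by
        rw [map_sub, ← ev_comp (g.app (op (n + t))), ← NatTrans.comp_app, h, NatTrans.comp_app, ev_comp,
          hψ.2.1, tr_tr, app_tr w, app_tr u, hx, sub_self])
    rw [map_sub, sub_eq_zero, tr_tr, ← app_tr] at h1
    rw [← app_tr, h1]
    exact (cokernel_app g n _).2 ⟨_, rfl⟩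
  · obtain ⟨y, rfl⟩ := app_surj (cokernel.π u) _ q
    obtain ⟨y', hy'⟩ := ht' n (ev (ARSys.tr Y (show n + t ≤ n + (t + r) by omega)) y)
    exact ⟨_, by rw [hmap, hy', tr_tr, app_tr]⟩

theorem arAdicNoeth_kernel_cokernel [IsNoetherianRing A] {X Y : ARSys.PS C} (u : X ⟶ Y)
    (hX : ARSys.IsARAdicNoeth J X) (hY : ARSys.IsARAdicNoeth J Y) :
    ARSys.IsARAdicNoeth J (kernel u) ∧ ARSys.IsARAdicNoeth J (cokernel u) := by
  obtain ⟨X', v, hX', hv⟩ := exists_adicNoeth_model hX
  obtain ⟨Y', w, hY', hw⟩ := exists_adicNoeth_model hY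
  obtain ⟨g, hg, -⟩ := existsUnique_lift hw hX'.1 hY'.1.1 (v ≫ u)
  refine ⟨⟨isARAdic_of_arIso_from (killed_mono (kernel.ι u) hX.1.1) (isARIso_kernel_map hv hw hg)
      (arAdic_kernel_of_adic g hX' hY'), fun n => ?_⟩,
    isARAdic_of_arIso_from (killed_epi (cokernel.π u) hY.1.1) (isARIso_cokernel_map hv hw hg)
      ⟨killed_epi (cokernel.π g) hY'.1.1, cokernel g, 𝟙 _,
        adic_cokernel_of_adic g (adic_strict hX'.1) hY'.1, isARIso_id _⟩, fun n => ?_⟩
  · haveI := hX.2 n
    haveI := app_mono (kernel.ι u) n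
    exact isNoetherianObject_of_mono ((kernel.ι u).app (op n))
  · haveI := hY.2 n
    haveI := app_epi (cokernel.π u) n
    exact noetherian_of_epi ((cokernel.π u).app (op n))

theorem arAdicNoeth_X₁ [IsNoetherianRing A] (S : ShortComplex (ARSys.PS C)) (hS : S.ShortExact)
    (h₂ : ARSys.IsARAdicNoeth J S.X₂) (h₃ : ARSys.IsARAdicNoeth J S.X₃) :
    ARSys.IsARAdicNoeth J S.X₁ := by
  haveI := hS.mono_f
  obtain ⟨hK, -⟩ := arAdicNoeth_kernel_cokernel S.g h₂ h₃
  haveI : IsIso (kernel.lift S.g S.f S.zero) :=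
    ⟨hS.fIsKernel.lift (KernelFork.ofι (kernel.ι S.g) (kernel.condition _)), by
      rw [← cancel_mono S.f, Category.assoc, Category.id_comp]
      exact (congrArg (fun t => kernel.lift S.g S.f S.zero ≫ t)
        (hS.fIsKernel.fac (KernelFork.ofι (kernel.ι S.g) (kernel.condition _)) WalkingParallelPair.zero)).trans (kernel.lift_ι _ _ _), by
      rw [← cancel_mono (kernel.ι S.g), Category.assoc, kernel.lift_ι, Category.id_comp]
      exact hS.fIsKernel.fac _ WalkingParallelPair.zero⟩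
  refine ⟨isARAdic_of_arIso_to (killed_mono S.f h₂.1.1) (isARIso_of_isIso (kernel.lift S.g S.f S.zero)) hK.1,
    fun n => ?_⟩
  haveI := h₂.2 n
  haveI := app_mono S.f n
  exact isNoetherianObject_of_mono (S.f.app (op n))

/-! ### the category of adic systems with Noetherian components -/

section Category

variable (J)

/-- Adic systems with Noetherian components. -/
abbrev AdicNoethProp : ObjectProperty (ARSys.PS C) := fun X => ARSys.IsAdicNoeth J X

/-- The category they form. -/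
abbrev AdicCat := ObjectProperty.FullSubcategory (AdicNoethProp J (C := C))

variable {J}

theorem adicNoeth_prod {P Q : ARSys.PS C} (hP : ARSys.IsAdicNoeth J P) (hQ : ARSys.IsAdicNoeth J Q) :
    ARSys.IsAdicNoeth J (P ⊞ Q) := by
  let S : ShortComplex (ARSys.PS C) := ShortComplex.mk (biprod.inl : P ⟶ P ⊞ Q) biprod.snd biprod.inl_snd
  have hS : S.ShortExact := (ShortComplex.Splitting.ofHasBinaryBiproduct P Q).shortExact
  have hk : ARSys.TermKilled J (P ⊞ Q) := fun n => killed_of_act fun a ha x => by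
    have e : ∀ y : El ((P ⊞ Q).obj (op n)), y =
        ev ((biprod.inl : P ⟶ P ⊞ Q).app (op n)) (ev ((biprod.fst : P ⊞ Q ⟶ P).app (op n)) y) +
        ev ((biprod.inr : Q ⟶ P ⊞ Q).app (op n)) (ev ((biprod.snd : P ⊞ Q ⟶ Q).app (op n)) y) := fun y => by
      rw [← ev_comp, ← ev_comp, ← ev_add, ← NatTrans.comp_app, ← NatTrans.comp_app, ← NatTrans.app_add,
        biprod.total, NatTrans.id_app, ev_id]
    rw [e (act a x), ev_act a ((biprod.fst : P ⊞ Q ⟶ P).app (op n)), ev_act a ((biprod.snd : P ⊞ Q ⟶ Q).app (op n)), killed_act (hP.1.1 n) ha, killed_act (hQ.1.1 n) ha, map_zero,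
      map_zero, add_zero]
  refine ⟨isAdic_X₂ hS hk hP.1 hQ.1, fun n => ?_⟩
  haveI := hP.2 n
  haveI := hQ.2 n
  exact noetherian_of_exact _ _ (exact_app hS.exact n)

theorem adicNoeth_zero {Z : ARSys.PS C} (hZ : IsZero Z) : ARSys.IsAdicNoeth J Z := by
  have h0 : ∀ n (x : El (Z.obj (op n))), x = 0 := fun n x => by
    rw [← ev_id x, show 𝟙 (Z.obj (op n)) = 0 from (hZ.obj (op n)).eq_of_src _ _, ev_zero]
  refine ⟨isAdic_mk (fun n => killed_of_act fun a _ x => h0 n _)
    (strict_of_surj fun a b h y => ⟨0, by rw [h0 a y, map_zero]⟩)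
    (fun a b h W φ _ x _ => by rw [h0 b x, map_zero]), fun n => isNoetherianObject_of_isZero (hZ.obj _)⟩

theorem hasFiniteProducts_adicCat : HasFiniteProducts (AdicCat (C := C) J) := by
  haveI : HasZeroObject (AdicCat (C := C) J) := by
    obtain ⟨Z, hZ⟩ := HasZeroObject.zero (C := ARSys.PS C)
    exact ⟨⟨⟨Z, adicNoeth_zero hZ⟩,
      fun W => ⟨⟨⟨ObjectProperty.homMk 0⟩, fun f => InducedCategory.hom_ext (hZ.eq_of_src _ _)⟩⟩,
      fun W => ⟨⟨⟨ObjectProperty.homMk 0⟩, fun f => InducedCategory.hom_ext (hZ.eq_of_tgt _ _)⟩⟩⟩⟩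
  haveI : HasBinaryBiproducts (AdicCat (C := C) J) := ⟨fun P Q => by
    let B : BinaryBicone P Q :=
      { pt := ⟨P.obj ⊞ Q.obj, adicNoeth_prod P.property Q.property⟩
        fst := ObjectProperty.homMk biprod.fst
        snd := ObjectProperty.homMk biprod.snd
        inl := ObjectProperty.homMk biprod.inl
        inr := ObjectProperty.homMk biprod.inr
        inl_fst := InducedCategory.hom_ext biprod.inl_fst
        inl_snd := InducedCategory.hom_ext biprod.inl_snd
        inr_fst := InducedCategory.hom_ext biprod.inr_fst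
        inr_snd := InducedCategory.hom_ext biprod.inr_snd }
    exact HasBinaryBiproduct.mk ⟨B, isBinaryBilimitOfTotal B (InducedCategory.hom_ext biprod.total)⟩⟩
  haveI : HasBinaryProducts (AdicCat (C := C) J) := inferInstance
  exact hasFiniteProducts_of_has_binary_and_terminal

variable [IsNoetherianRing A]

theorem hasKernels_adicCat : HasKernels (AdicCat (C := C) J) := by
  refine ⟨fun {P Q} f => ?_⟩
  have hK := arAdic_kernel_of_adic f.hom P.property Q.property
  have hKn : ∀ n, IsNoetherianObject ((kernel f.hom).obj (op n)) := fun n => by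
    haveI := P.property.2 n
    haveI := app_mono (kernel.ι f.hom) n
    exact isNoetherianObject_of_mono ((kernel.ι f.hom).app (op n))
  obtain ⟨Y, v, hY, hv⟩ := exists_adicNoeth_model (⟨hK, hKn⟩ : ARSys.IsARAdicNoeth J (kernel f.hom))
  let Y' : AdicCat (C := C) J := ⟨Y, hY⟩
  haveI : Mono (ObjectProperty.homMk (v ≫ kernel.ι f.hom) : Y' ⟶ P) := ⟨fun {W} g₁ g₂ h => by
    refine InducedCategory.hom_ext ?_
    have h' : (g₁.hom ≫ v) ≫ kernel.ι f.hom = (g₂.hom ≫ v) ≫ kernel.ι f.hom := by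
      rw [Category.assoc, Category.assoc]
      exact congrArg InducedCategory.Hom.hom h
    exact (existsUnique_lift hv W.property.1 hY.1.1 (g₂.hom ≫ v)).unique ((cancel_mono _).1 h') rfl⟩
  refine ⟨⟨_, KernelFork.IsLimit.ofι' (ObjectProperty.homMk (v ≫ kernel.ι f.hom) : Y' ⟶ P)
    (InducedCategory.hom_ext (by
      show (v ≫ kernel.ι f.hom) ≫ f.hom = 0
      rw [Category.assoc, kernel.condition, comp_zero])) (fun {W} g hg => ?_)⟩⟩
  let l := (existsUnique_lift hv W.property.1 hY.1.1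
    (kernel.lift f.hom g.hom (congrArg InducedCategory.Hom.hom hg)))
  refine ⟨ObjectProperty.homMk l.exists.choose, InducedCategory.hom_ext ?_⟩
  show l.exists.choose ≫ v ≫ kernel.ι f.hom = g.hom
  rw [← Category.assoc, l.exists.choose_spec, kernel.lift_ι]

theorem hasCokernels_adicCat : HasCokernels (AdicCat (C := C) J) := by
  refine ⟨fun {P Q} f => ?_⟩
  let R : AdicCat (C := C) J := ⟨cokernel f.hom,
    adic_cokernel_of_adic f.hom (adic_strict P.property.1) Q.property.1, fun n => by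
      haveI := Q.property.2 n
      haveI := app_epi (cokernel.π f.hom) n
      exact noetherian_of_epi ((cokernel.π f.hom).app (op n))⟩
  refine ⟨⟨_, CokernelCofork.IsColimit.ofπ (ObjectProperty.homMk (cokernel.π f.hom) : Q ⟶ R)
    (InducedCategory.hom_ext (cokernel.condition _))
    (fun g hg => ObjectProperty.homMk (cokernel.desc f.hom g.hom (congrArg InducedCategory.Hom.hom hg)))
    (fun g hg => InducedCategory.hom_ext (cokernel.π_desc _ _ _))
    (fun g hg m hm => InducedCategory.hom_ext ((cancel_epi (cokernel.π f.hom)).1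
      ((congrArg InducedCategory.Hom.hom hm).trans (cokernel.π_desc _ _ _).symm)))⟩⟩

theorem factorThruImage_arIso {P Q : AdicCat (C := C) J} (f : P ⟶ Q) [Mono f] :
    ARSys.IsARIso (Abelian.factorThruImage f.hom) := by
  have hK := arAdic_kernel_of_adic f.hom P.property Q.property
  have hKn : ∀ n, IsNoetherianObject ((kernel f.hom).obj (op n)) := fun n => by
    haveI := P.property.2 n
    haveI := app_mono (kernel.ι f.hom) n
    exact isNoetherianObject_of_mono ((kernel.ι f.hom).app (op n))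
  obtain ⟨Y, v, hY, hv⟩ := exists_adicNoeth_model (⟨hK, hKn⟩ : ARSys.IsARAdicNoeth J (kernel f.hom))
  let a : (⟨Y, hY⟩ : AdicCat (C := C) J) ⟶ P := ObjectProperty.homMk (v ≫ kernel.ι f.hom)
  have ha : a = 0 := zero_of_comp_mono f (InducedCategory.hom_ext (by
    show (v ≫ kernel.ι f.hom) ≫ f.hom = 0
    rw [Category.assoc, kernel.condition, comp_zero]))
  have hv0 : v ≫ kernel.ι f.hom = 0 := congrArg InducedCategory.Hom.hom ha
  obtain ⟨r, -, hr⟩ := (isARIso_iff_elem v).1 hv
  refine (isARIso_iff_elem _).2 ⟨r, fun n x hx => ?_, fun n y => app_surj _ n _⟩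
  have hx0 : ev (f.hom.app (op (n + r))) x = 0 := by
    rw [← Abelian.image.fac f.hom, NatTrans.comp_app, ev_comp, hx, map_zero]
  obtain ⟨k, rfl⟩ := (kernel_app f.hom _ x).1 hx0
  obtain ⟨y, hy⟩ := hr n k
  rw [← app_tr, ← hy, ← ev_comp, ← NatTrans.comp_app, hv0]
  simp

theorem isNormalMono_adicCat : IsNormalMonoCategory (AdicCat (C := C) J) := by
  refine ⟨fun {P Q} f _ => ?_⟩
  have he := factorThruImage_arIso f
  have hS := sES_cokernel f.hom
  let R : AdicCat (C := C) J := ⟨cokernel f.hom,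
    adic_cokernel_of_adic f.hom (adic_strict P.property.1) Q.property.1, fun n => by
      haveI := Q.property.2 n
      haveI := app_epi (cokernel.π f.hom) n
      exact noetherian_of_epi ((cokernel.π f.hom).app (op n))⟩
  refine ⟨⟨R, ObjectProperty.homMk (cokernel.π f.hom), InducedCategory.hom_ext (cokernel.condition _),
    KernelFork.IsLimit.ofι' f _ fun {W} g hg => ?_⟩⟩
  have hl := existsUnique_lift he W.property.1 P.property.1.1
    (kernel.lift (cokernel.π f.hom) g.hom (congrArg InducedCategory.Hom.hom hg))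
  refine ⟨ObjectProperty.homMk hl.exists.choose, InducedCategory.hom_ext ?_⟩
  show hl.exists.choose ≫ f.hom = g.hom
  conv_lhs => arg 2; rw [← Abelian.image.fac f.hom]
  rw [← Category.assoc, hl.exists.choose_spec]
  exact kernel.lift_ι _ _ _

theorem epi_hom {P Q : AdicCat (C := C) J} (f : P ⟶ Q) [Epi f] : Epi f.hom := by
  let R : AdicCat (C := C) J := ⟨cokernel f.hom,
    adic_cokernel_of_adic f.hom (adic_strict P.property.1) Q.property.1, fun n => by
      haveI := Q.property.2 n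
      haveI := app_epi (cokernel.π f.hom) n
      exact noetherian_of_epi ((cokernel.π f.hom).app (op n))⟩
  have h : (ObjectProperty.homMk (cokernel.π f.hom) : Q ⟶ R) = 0 :=
    zero_of_epi_comp f (InducedCategory.hom_ext (cokernel.condition _))
  exact Abelian.epi_of_cokernel_π_eq_zero f.hom (congrArg InducedCategory.Hom.hom h)

theorem isNormalEpi_adicCat : IsNormalEpiCategory (AdicCat (C := C) J) := by
  refine ⟨fun {P Q} f _ => ?_⟩
  haveI := epi_hom f
  have hK := arAdic_kernel_of_adic f.hom P.property Q.property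
  have hKn : ∀ n, IsNoetherianObject ((kernel f.hom).obj (op n)) := fun n => by
    haveI := P.property.2 n
    haveI := app_mono (kernel.ι f.hom) n
    exact isNoetherianObject_of_mono ((kernel.ι f.hom).app (op n))
  obtain ⟨Y, v, hY, hv⟩ := exists_adicNoeth_model (⟨hK, hKn⟩ : ARSys.IsARAdicNoeth J (kernel f.hom))
  let Y' : AdicCat (C := C) J := ⟨Y, hY⟩
  have hdesc : ∀ (W : AdicCat (C := C) J) (g : P ⟶ W),
      (ObjectProperty.homMk (v ≫ kernel.ι f.hom) : Y' ⟶ P) ≫ g = 0 → kernel.ι f.hom ≫ g.hom = 0 := by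
    intro W g hg
    have h0 : (v ≫ kernel.ι f.hom) ≫ g.hom = 0 := congrArg InducedCategory.Hom.hom hg
    rw [Category.assoc] at h0
    obtain ⟨r, -, hr⟩ := (isARIso_iff_elem v).1 hv
    refine hom_ext' fun n => Groth.L28.Elt.hom_ext fun k => ?_
    let x := ev ((kernel.ι f.hom).app (op n)) k
    obtain ⟨z, hz⟩ := strict_surj (adic_strict P.property.1) (Nat.le_add_right n r) x
    have hfz : ev (ARSys.tr Q.obj (Nat.le_add_right n r)) (ev (f.hom.app (op (n + r))) z) = 0 := by
      rw [← app_tr, hz]; exact (kernel_app f.hom n x).2 ⟨k, rfl⟩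
    haveI := app_epi f.hom (n + r)
    obtain ⟨z', hz', hz'0⟩ := IsQuot.lift_epi (Q.property.1.2 n (n + r) (Nat.le_add_right n r))
      (f.hom.app (op (n + r))) (homKilled_of_killed (P.property.1.1 n) (ARSys.tr P.obj (Nat.le_add_right n r))) hfz
    obtain ⟨d, hd⟩ := (kernel_app f.hom _ (z - z')).1 (by rw [map_sub, hz', sub_self])
    obtain ⟨y, hy⟩ := hr n d
    have hxy : x = ev ((kernel.ι f.hom).app (op n)) (ev (v.app (op n)) y) := by
      rw [hy, app_tr, hd, map_sub, hz, hz'0, sub_zero]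
    rw [NatTrans.comp_app, ev_comp]
    show ev (g.hom.app (op n)) x = _
    rw [hxy, ← ev_comp, ← ev_comp, ← NatTrans.comp_app, ← NatTrans.comp_app, h0]
    simp
  refine ⟨⟨Y', ObjectProperty.homMk (v ≫ kernel.ι f.hom), InducedCategory.hom_ext (by
      show (v ≫ kernel.ι f.hom) ≫ f.hom = 0
      rw [Category.assoc, kernel.condition, comp_zero]),
    CokernelCofork.IsColimit.ofπ' f _ fun {W} g hg => ?_⟩⟩
  refine ⟨ObjectProperty.homMk (Abelian.epiDesc f.hom g.hom (hdesc W g hg)), InducedCategory.hom_ext ?_⟩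
  exact Abelian.comp_epiDesc _ _ _

omit [IsNoetherianRing A] in
theorem mem_lvl_image {X Q : ARSys.PS C} (f : X ⟶ Q) (n : ℕ) (x : El (Q.obj (op n))) :
    x ∈ elts (lvl (Subobject.mk (Abelian.image.ι f)) n) ↔ ∃ w, ev (f.app (op n)) w = x := by
  have hfac : ∀ w, ev (f.app (op n)) w = ev ((Abelian.image.ι f).app (op n))
      (ev ((Abelian.factorThruImage f).app (op n)) w) := fun w => by
    rw [← ev_comp, ← NatTrans.comp_app, Abelian.image.fac]
  rw [mem_lvl]
  constructor
  · rintro ⟨z, rfl⟩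
    obtain ⟨w, hw⟩ := app_surj (Abelian.factorThruImage f) n
      (ev ((Subobject.underlyingIso (Abelian.image.ι f)).hom.app (op n)) z)
    refine ⟨w, ?_⟩
    rw [hfac, hw, ← ev_comp, ← NatTrans.comp_app, Subobject.underlyingIso_hom_comp_eq_mk]
  · rintro ⟨w, rfl⟩
    refine ⟨ev ((Subobject.underlyingIso (Abelian.image.ι f)).inv.app (op n))
      (ev ((Abelian.factorThruImage f).app (op n)) w), ?_⟩
    rw [hfac, ← ev_comp, ← NatTrans.comp_app, Subobject.underlyingIso_arrow]

omit [IsNoetherianRing A] in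
theorem strict_mk_image {X Q : ARSys.PS C} (f : X ⟶ Q) (hX : ARSys.IsStrict X) :
    ARSys.IsStrict (Subobject.underlying.obj (Subobject.mk (Abelian.image.ι f)) : ARSys.PS C) := by
  refine strict_of_surj fun a b hab y => ?_
  obtain ⟨x, hx⟩ := strict_surj (strict_image f hX) hab
    (ev ((Subobject.underlyingIso (Abelian.image.ι f)).hom.app (op a)) y)
  refine ⟨ev ((Subobject.underlyingIso (Abelian.image.ι f)).inv.app (op b)) x, ?_⟩
  rw [← app_tr, hx, ← ev_comp, Iso.hom_inv_id_app, ev_id]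

omit [IsNoetherianRing A] in
theorem hom_factor {Q : AdicCat (C := C) J} {U V : Subobject Q} (h : U ≤ V) :
    ∃ m : (U : AdicCat (C := C) J).obj ⟶ (V : AdicCat (C := C) J).obj, m ≫ V.arrow.hom = U.arrow.hom :=
  ⟨(Subobject.ofLE U V h).hom, congrArg InducedCategory.Hom.hom (Subobject.ofLE_arrow h)⟩

theorem noetherian_adicCat (Q : AdicCat (C := C) J) : IsNoetherianObject Q := by
  rw [isNoetherianObject_iff_monotone_chain_condition]
  intro W
  let g : ∀ k, ((W k : Subobject Q) : AdicCat (C := C) J).obj ⟶ Q.obj := fun k => (W k).arrow.hom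
  obtain ⟨k₀, hk₀⟩ := strict_chain Q.property (fun k => Subobject.mk (Abelian.image.ι (g k)))
    (fun k l h => (le_iff_lvl _ _).2 fun n => le_iff'.2 fun x hx => by
      obtain ⟨z, rfl⟩ := (mem_lvl_image (g k) n x).1 hx
      obtain ⟨m, hm⟩ := hom_factor (W.monotone h)
      have e := ev_congr (congrArg (fun t => t.app (op n)) hm) z
      simp only [NatTrans.comp_app, ev_comp] at e
      exact (mem_lvl_image (g l) n _).2 ⟨ev (m.app (op n)) z, e⟩)
    (fun k => strict_mk_image (g k) (adic_strict ((W k : Subobject Q) : AdicCat (C := C) J).property.1))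
  refine ⟨k₀, fun k hk => le_antisymm (W.monotone hk) ?_⟩
  have he := factorThruImage_arIso (W k₀).arrow
  obtain ⟨l, hl⟩ := exists_lift_sys (Abelian.image.ι (g k₀)) (g k) fun n z => by
    have h : ev ((g k).app (op n)) z ∈ elts (lvl (Subobject.mk (Abelian.image.ι (g k))) n) :=
      (mem_lvl_image (g k) n _).2 ⟨z, rfl⟩
    rw [hk₀ k hk] at h
    obtain ⟨z₀, hz₀⟩ := (mem_lvl_image (g k₀) n _).1 h
    refine ⟨ev ((Abelian.factorThruImage (g k₀)).app (op n)) z₀, ?_⟩
    rw [← hz₀, ← ev_comp, ← NatTrans.comp_app, Abelian.image.fac]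
  obtain ⟨m, hm, -⟩ := existsUnique_lift he ((W k : Subobject Q) : AdicCat (C := C) J).property.1
    ((W k₀ : Subobject Q) : AdicCat (C := C) J).property.1.1 l
  refine Subobject.le_of_comm (ObjectProperty.homMk m) (InducedCategory.hom_ext ?_)
  show m ≫ g k₀ = g k
  rw [← hl, ← hm, Category.assoc, Abelian.image.fac]

theorem abelian_adicCat : Nonempty (Abelian (AdicCat (C := C) J)) := by
  haveI := hasFiniteProducts_adicCat (C := C) (J := J)
  haveI := hasKernels_adicCat (C := C) (J := J)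
  haveI := hasCokernels_adicCat (C := C) (J := J)
  haveI := isNormalMono_adicCat (C := C) (J := J)
  haveI := isNormalEpi_adicCat (C := C) (J := J)
  exact ⟨{}⟩

end Category

end Groth.L28.AR
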