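import Groth.Agent.L28.AR.Iso
import Mathlib.CategoryTheory.Adjunction.Additive
import Mathlib.CategoryTheory.Linear.LinearFunctor

/-!
Images of adic systems and of isomorphisms up to translation under functors.
-/

set_option autoImplicit false

universe w v u v' u'

open CategoryTheory CategoryTheory.Limits Opposite

namespace Groth.L28.AR

open Groth.L28.Elt

variable {C : Type u} [Category.{v} C] [Abelian C] {D : Type u'} [Category.{v'} D] [Abelian D]
  (Φ : C ⥤ D) [Φ.Additive]

theorem isARIso_whiskerRight {X Y : ARSys.PS C} {u : X ⟶ Y} (hu : ARSys.IsARIso u) :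
    ARSys.IsARIso (Functor.whiskerRight u Φ) := by
  obtain ⟨r, ψ, h1, h2, h3⟩ := exists_isInv hu
  refine isARIso_of_isInv (r := r) (ψ := fun n => Φ.map (ψ n)) ⟨fun n x => ?_, fun n y => ?_, fun a b h y => ?_⟩
  · have e : u.app (op (n + r)) ≫ ψ n = ARSys.tr X (Nat.le_add_right n r) := Elt.hom_ext fun z => by
      rw [ev_comp]; exact h1 n z
    rw [← ev_comp]
    exact congrArg (fun k => ev k x) ((Φ.map_comp _ _).symm.trans (congrArg Φ.map e))
  · have e : ψ n ≫ u.app (op n) = ARSys.tr Y (Nat.le_add_right n r) := Elt.hom_ext fun z => by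
      rw [ev_comp]; exact h2 n z
    rw [← ev_comp]
    exact congrArg (fun k => ev k y) ((Φ.map_comp _ _).symm.trans (congrArg Φ.map e))
  · have e : ARSys.tr Y (Nat.add_le_add_right h r) ≫ ψ a = ψ b ≫ ARSys.tr X h := Elt.hom_ext fun z => by
      rw [ev_comp, ev_comp]; exact (h3 a b h z).symm
    rw [← ev_comp, ← ev_comp]
    exact congrArg (fun k => ev k y) ((Φ.map_comp _ _).symm.trans ((congrArg Φ.map e.symm).trans (Φ.map_comp _ _)))

variable {A : Type w} [CommRing A] [Linear A C] [Linear A D] [Φ.Linear A] {J : Ideal A}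


theorem termKilled_comp {X : ARSys.PS C} (h : ARSys.TermKilled J X) : ARSys.TermKilled J (X ⋙ Φ) :=
  fun n a ha => by
    show a • 𝟙 (Φ.obj (X.obj (op n))) = 0
    rw [← Φ.map_id, ← Φ.map_smul, h n a ha, Φ.map_zero]

theorem isQuot_map {R : D ⥤ C} (adj : Φ ⊣ R) {I : Ideal A} {X Q : C} {p : X ⟶ Q}
    (hp : ARSys.IsQuot I p) : ARSys.IsQuot I (Φ.map p) := by
  refine ⟨fun a ha => ?_, fun Y φ hφ => ?_⟩
  · rw [← Φ.map_id, ← Φ.map_smul, hp.1 a ha, Φ.map_zero]
  · have hψ : ARSys.HomKilledBy I (adj.homEquiv X Y φ) := fun a ha => by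
      apply (adj.homEquiv X Y).symm.injective
      have e : ∀ (k : X ⟶ R.obj Y), (adj.homEquiv X Y).symm k = Φ.map k ≫ adj.counit.app Y :=
        fun k => adj.homEquiv_counit X Y k
      rw [e, e, Φ.map_smul, Linear.smul_comp, ← e, Equiv.symm_apply_apply, hφ a ha, Φ.map_zero, zero_comp]
    obtain ⟨χ, hχ, huniq⟩ := hp.2 _ _ hψ
    refine ⟨(adj.homEquiv Q Y).symm χ, ?_, fun χ' hχ' => ?_⟩
    · show Φ.map p ≫ _ = φ
      rw [← adj.homEquiv_naturality_left_symm, hχ, Equiv.symm_apply_apply]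
    · apply (adj.homEquiv Q Y).injective
      rw [Equiv.apply_symm_apply]
      exact huniq _ (by show p ≫ _ = _; rw [← adj.homEquiv_naturality_left, hχ'])

theorem isAdic_comp {R : D ⥤ C} (adj : Φ ⊣ R) {X : ARSys.PS C} (h : ARSys.IsAdic J X) :
    ARSys.IsAdic J (X ⋙ Φ) :=
  ⟨termKilled_comp Φ h.1, fun n m hnm => isQuot_map Φ adj (h.2 n m hnm)⟩

omit [Abelian C] [Abelian D] in
theorem linear_of_adjunction {C : Type u} [Category.{v} C] {D : Type u'} [Category.{v'} D] [Preadditive C]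
    [Preadditive D] {A : Type w} [CommRing A] [Linear A C] [Linear A D] {L : C ⥤ D} {R : D ⥤ C}
    (adj : L ⊣ R) [R.Additive] [R.Linear A] : L.Linear A where
  map_smul {X Y} f a := by
    apply (adj.homEquiv X (L.obj Y)).injective
    rw [adj.homEquiv_unit, adj.homEquiv_unit, adj.unit_naturality, R.map_smul, Linear.comp_smul,
      adj.unit_naturality, Linear.smul_comp]

end Groth.L28.AR
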