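import Groth.Agent.L28.Elt
import Groth.Prelude.Def_ARSys
import Mathlib.RingTheory.Finiteness.Ideal
import Mathlib.CategoryTheory.Limits.FunctorCategory.Basic
import Mathlib.CategoryTheory.Preadditive.FunctorCategory

/-!
Projective systems: transition maps, elements, killed objects and quotients modulo an ideal.
-/

set_option autoImplicit false

universe w v u

open CategoryTheory CategoryTheory.Limits Opposite

namespace Groth.L28.AR

open Groth.L28.Elt

variable {C : Type u} [Category.{v} C] [Abelian C]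

/-! ### transition maps -/

theorem tr_self (X : ARSys.PS C) (n : ℕ) (h : n ≤ n) : ARSys.tr X h = 𝟙 _ := X.map_id (op n)

@[reassoc]
theorem tr_comp (X : ARSys.PS C) {a b c : ℕ} (h : a ≤ b) (h' : b ≤ c) :
    ARSys.tr X h' ≫ ARSys.tr X h = ARSys.tr X (h.trans h') := by
  rw [← X.map_comp]; rfl

theorem tr_tr (X : ARSys.PS C) {a b c : ℕ} (h : a ≤ b) (h' : b ≤ c) (x : El (X.obj (op c))) :
    ev (ARSys.tr X h) (ev (ARSys.tr X h') x) = ev (ARSys.tr X (h.trans h')) x := by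
  rw [← ev_comp, tr_comp]

theorem tr_rfl (X : ARSys.PS C) {n : ℕ} (h : n ≤ n) (x : El (X.obj (op n))) :
    ev (ARSys.tr X h) x = x := by rw [tr_self, ev_id]

theorem nat_tr {X Y : ARSys.PS C} (f : X ⟶ Y) {a b : ℕ} (h : a ≤ b) :
    ARSys.tr X h ≫ f.app (op a) = f.app (op b) ≫ ARSys.tr Y h :=
  f.naturality _

theorem app_tr {X Y : ARSys.PS C} (f : X ⟶ Y) {a b : ℕ} (h : a ≤ b) (x : El (X.obj (op b))) :
    ev (f.app (op a)) (ev (ARSys.tr X h) x) = ev (ARSys.tr Y h) (ev (f.app (op b)) x) := by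
  rw [← ev_comp, ← ev_comp, nat_tr]

/-- Build a morphism of systems from components commuting with the transition maps. -/
def mkHom {X Y : ARSys.PS C} (φ : ∀ n, X.obj (op n) ⟶ Y.obj (op n))
    (h : ∀ (a b : ℕ) (hab : a ≤ b), ARSys.tr X hab ≫ φ a = φ b ≫ ARSys.tr Y hab) : X ⟶ Y where
  app n := φ n.unop
  naturality _ _ f := h _ _ (leOfHom f.unop)

@[simp] theorem mkHom_app {X Y : ARSys.PS C} (φ : ∀ n, X.obj (op n) ⟶ Y.obj (op n))
    (h : ∀ (a b : ℕ) (hab : a ≤ b), ARSys.tr X hab ≫ φ a = φ b ≫ ARSys.tr Y hab) (n : ℕ) :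
    (mkHom φ h).app (op n) = φ n := rfl

theorem hom_ext' {X Y : ARSys.PS C} {f g : X ⟶ Y} (h : ∀ n, f.app (op n) = g.app (op n)) : f = g :=
  NatTrans.ext (funext fun n => h n.unop)

theorem shift_tr (X : ARSys.PS C) (r : ℕ) {a b : ℕ} (h : a ≤ b) :
    ARSys.tr ((ARSys.shift C r).obj X) h = ARSys.tr X (Nat.add_le_add_right h r) := rfl

/-- The canonical morphism `X[r] ⟶ X`. -/
noncomputable def canShift (X : ARSys.PS C) (r : ℕ) : (ARSys.shift C r).obj X ⟶ X :=
  mkHom (fun n => ARSys.shiftMap X r n) fun a b hab => by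
    show ARSys.tr X _ ≫ ARSys.tr X _ = ARSys.tr X _ ≫ ARSys.tr X _
    rw [tr_comp, tr_comp]

theorem canShift_app (X : ARSys.PS C) (r n : ℕ) :
    (canShift X r).app (op n) = ARSys.shiftMap X r n := rfl

theorem canShift_naturality {X Y : ARSys.PS C} (f : X ⟶ Y) (r : ℕ) :
    (ARSys.shift C r).map f ≫ canShift Y r = canShift X r ≫ f :=
  hom_ext' fun n => (nat_tr f (Nat.le_add_right n r)).symm

/-! ### short exact sequences of systems -/

theorem app_epi {X Y : ARSys.PS C} (f : X ⟶ Y) [Epi f] (n : ℕ) : Epi (f.app (op n)) :=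
  inferInstanceAs (Epi (((evaluation ℕᵒᵖ C).obj (op n)).map f))

theorem app_mono {X Y : ARSys.PS C} (f : X ⟶ Y) [Mono f] (n : ℕ) : Mono (f.app (op n)) :=
  inferInstanceAs (Mono (((evaluation ℕᵒᵖ C).obj (op n)).map f))

theorem app_surj {X Y : ARSys.PS C} (f : X ⟶ Y) [Epi f] (n : ℕ) :
    Function.Surjective (ev (f.app (op n))) := epi_iff.1 (app_epi f n)

theorem app_inj {X Y : ARSys.PS C} (f : X ⟶ Y) [Mono f] (n : ℕ) :
    Function.Injective (ev (f.app (op n))) := mono_iff.1 (app_mono f n)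

theorem exact_app {S : ShortComplex (ARSys.PS C)} (hS : S.Exact) (n : ℕ)
    (y : El (S.X₂.obj (op n))) (hy : ev (S.g.app (op n)) y = 0) :
    ∃ x, ev (S.f.app (op n)) x = y :=
  (exact_iff _).1 (hS.map ((evaluation ℕᵒᵖ C).obj (op n))) y hy

theorem zero_app' {S : ShortComplex (ARSys.PS C)} (n : ℕ) (x : El (S.X₁.obj (op n))) :
    ev (S.g.app (op n)) (ev (S.f.app (op n)) x) = 0 := by
  rw [← ev_comp, ← NatTrans.comp_app, S.zero]
  simp

theorem kernel_app {X Y : ARSys.PS C} (u : X ⟶ Y) (n : ℕ) (x : El (X.obj (op n))) :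
    ev (u.app (op n)) x = 0 ↔ ∃ k, ev ((kernel.ι u).app (op n)) k = x := by
  constructor
  · exact exact_app (ShortComplex.exact_of_f_is_kernel (ShortComplex.mk _ u (kernel.condition u))
      (kernelIsKernel u)) n x
  · rintro ⟨k, rfl⟩
    exact zero_app' (S := ShortComplex.mk _ u (kernel.condition u)) n k

theorem cokernel_app {X Y : ARSys.PS C} (u : X ⟶ Y) (n : ℕ) (y : El (Y.obj (op n))) :
    ev ((cokernel.π u).app (op n)) y = 0 ↔ ∃ x, ev (u.app (op n)) x = y := by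
  constructor
  · exact exact_app (ShortComplex.exact_of_g_is_cokernel (ShortComplex.mk u _ (cokernel.condition u))
      (cokernelIsCokernel u)) n y
  · rintro ⟨x, rfl⟩
    exact zero_app' (S := ShortComplex.mk u _ (cokernel.condition u)) n x

/-! ### the linear structure -/

section Linear

variable {A : Type w} [CommRing A] [Linear A C] {I I' : Ideal A}

/-- Action of a scalar on elements. -/
noncomputable abbrev act {X : C} (a : A) : El X →ₗ[Abelian.FreydMitchell.EmbeddingRing C] El X :=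
  ev (a • 𝟙 X)

theorem ev_smul {X Y : C} (a : A) (f : X ⟶ Y) (x : El X) : ev (a • f) x = ev f (act a x) := by
  rw [← ev_comp, Linear.smul_comp, Category.id_comp]

theorem ev_act {X Y : C} (a : A) (f : X ⟶ Y) (x : El X) : ev f (act a x) = act a (ev f x) := by
  rw [← ev_comp, ← ev_comp, Linear.smul_comp, Category.id_comp, Linear.comp_smul, Category.comp_id]

theorem act_act {X : C} (a b : A) (x : El X) : act a (act b x) = act (a * b) x := by
  rw [← ev_comp, Linear.smul_comp, Category.id_comp, ← mul_smul, mul_comm]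

theorem act_one {X : C} (x : El X) : act (1 : A) x = x := by simp [act]

theorem killed_act {X : C} (hX : ARSys.KilledBy I X) {a : A} (ha : a ∈ I) (x : El X) : act a x = 0 := by
  show ev (a • 𝟙 X) x = 0
  rw [hX a ha, ev_zero]

theorem killed_of_act {X : C} (h : ∀ a ∈ I, ∀ x : El X, act a x = 0) : ARSys.KilledBy I X :=
  fun a ha => eq_zero_iff.2 (h a ha)

theorem homKilled_iff {X Y : C} (φ : X ⟶ Y) :
    ARSys.HomKilledBy I φ ↔ ∀ a ∈ I, ∀ x, ev φ (act a x) = 0 := by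
  refine forall₂_congr fun a _ => eq_zero_iff.trans (forall_congr' fun x => ?_)
  rw [ev_smul]

theorem homKilled_of_killed {X Y : C} (hY : ARSys.KilledBy I Y) (φ : X ⟶ Y) :
    ARSys.HomKilledBy I φ :=
  (homKilled_iff φ).2 fun a ha x => by rw [ev_act, killed_act hY ha]

theorem homKilled_precomp {X Y Z : C} (f : X ⟶ Y) {φ : Y ⟶ Z} (h : ARSys.HomKilledBy I φ) :
    ARSys.HomKilledBy I (f ≫ φ) :=
  (homKilled_iff _).2 fun a ha x => by rw [ev_comp, ev_act, (homKilled_iff φ).1 h a ha]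

theorem homKilled_postcomp {X Y Z : C} {φ : X ⟶ Y} (h : ARSys.HomKilledBy I φ) (g : Y ⟶ Z) :
    ARSys.HomKilledBy I (φ ≫ g) :=
  (homKilled_iff _).2 fun a ha x => by rw [ev_comp, (homKilled_iff φ).1 h a ha, map_zero]

theorem homKilled_mono_ideal {X Y : C} {φ : X ⟶ Y} (hle : I' ≤ I) (h : ARSys.HomKilledBy I φ) :
    ARSys.HomKilledBy I' φ := fun a ha => h a (hle ha)

theorem homKilled_lift {X Y Z : C} {f : X ⟶ Y} {g : X ⟶ Z} (hf : ARSys.HomKilledBy I f)
    (hg : ARSys.HomKilledBy I g) : ARSys.HomKilledBy I (biprod.lift f g) :=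
  (homKilled_iff _).2 fun a ha x => biprod_ext
    (by rw [← ev_comp, biprod.lift_fst, map_zero, (homKilled_iff f).1 hf a ha])
    (by rw [← ev_comp, biprod.lift_snd, map_zero, (homKilled_iff g).1 hg a ha])

theorem killed_mono_ideal {X : C} (hle : I' ≤ I) (h : ARSys.KilledBy I X) : ARSys.KilledBy I' X :=
  fun a ha => h a (hle ha)

theorem killed_of_mono {X Y : C} (f : X ⟶ Y) [Mono f] (hY : ARSys.KilledBy I Y) : ARSys.KilledBy I X :=
  killed_of_act fun a ha x => eq_zero_of_mono f (by rw [ev_act, killed_act hY ha])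

theorem killed_of_epi {X Y : C} (f : X ⟶ Y) [Epi f] (hX : ARSys.KilledBy I X) : ARSys.KilledBy I Y :=
  killed_of_act fun a ha y => by
    obtain ⟨x, rfl⟩ := surj f y
    rw [← ev_act, killed_act hX ha, map_zero]

theorem killed_top {X : C} (h : ARSys.KilledBy (⊤ : Ideal A) X) (x : El X) : x = 0 := by
  rw [← act_one (A := A) x]
  exact killed_act h trivial x

/-! ### quotient maps -/

theorem IsQuot.epi {X Q : C} {p : X ⟶ Q} (h : ARSys.IsQuot I p) : Epi p := by
  refine ⟨fun {Z} g₁ g₂ he => ?_⟩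
  obtain ⟨ψ, hψ, huniq⟩ := h.2 Z (p ≫ g₁) (homKilled_postcomp (homKilled_of_killed h.1 p) g₁)
  rw [huniq g₁ rfl, huniq g₂ he.symm]

theorem IsQuot.surjective {X Q : C} {p : X ⟶ Q} (h : ARSys.IsQuot I p) :
    Function.Surjective (ev p) := epi_iff.1 (IsQuot.epi h)

theorem IsQuot.vanish {X Q : C} {p : X ⟶ Q} (h : ARSys.IsQuot I p) {Z : C} {φ : X ⟶ Z}
    (hφ : ARSys.HomKilledBy I φ) {x : El X} (hx : ev p x = 0) : ev φ x = 0 := by
  obtain ⟨ψ, hψ, -⟩ := h.2 Z φ hφ
  rw [← hψ, ev_comp, hx, map_zero]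

theorem IsQuot.mk {X Q : C} {p : X ⟶ Q} (hp : Function.Surjective (ev p))
    (hQ : ARSys.KilledBy I Q)
    (h : ∀ (Z : C) (φ : X ⟶ Z), ARSys.HomKilledBy I φ → ∀ x, ev p x = 0 → ev φ x = 0) :
    ARSys.IsQuot I p := by
  refine ⟨hQ, fun Z φ hφ => ?_⟩
  haveI : Epi p := epi_iff.2 hp
  obtain ⟨d, hd⟩ := exists_desc p φ (h Z φ hφ)
  exact ⟨d, hd, fun ψ hψ => (cancel_epi p).1 (hψ.trans hd.symm)⟩

/-- Elements killed by a quotient map lift through epimorphisms to elements killed by any test map. -/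
theorem IsQuot.lift_epi {X Y Q : C} {p : Y ⟶ Q} (h : ARSys.IsQuot I p) (g : X ⟶ Y) [Epi g] {Z : C}
    {φ : X ⟶ Z} (hφ : ARSys.HomKilledBy I φ) {y : El Y} (hy : ev p y = 0) :
    ∃ x, ev g x = y ∧ ev φ x = 0 := by
  have hk : ARSys.HomKilledBy I (cokernel.π (kernel.ι φ ≫ g)) := by
    refine (homKilled_iff _).2 fun a ha w => ?_
    obtain ⟨v, rfl⟩ := surj g w
    rw [← ev_act, cokernel_π_eq_zero_iff]
    obtain ⟨k, hk⟩ := (mem_range_kernel_ι φ (act a v)).2 ((homKilled_iff φ).1 hφ a ha v)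
    exact ⟨k, by rw [ev_comp, hk]⟩
  obtain ⟨k, hk'⟩ := (cokernel_π_eq_zero_iff _ _).1 (IsQuot.vanish h hk hy)
  exact ⟨ev (kernel.ι φ) k, by rw [← ev_comp, hk'], (mem_range_kernel_ι φ _).1 ⟨k, rfl⟩⟩

theorem exists_quot_of_fg (hI : I.FG) (X : C) : ∃ (Q : C) (p : X ⟶ Q), ARSys.IsQuot I p := by
  classical
  obtain ⟨s, rfl⟩ := hI
  suffices ∀ s : Finset A, ∃ (Q : C) (p : X ⟶ Q), Epi p ∧ (∀ a ∈ s, a • p = 0) ∧
      ∀ (Z : C) (φ : X ⟶ Z), (∀ a ∈ s, a • φ = 0) → ∀ x, ev p x = 0 → ev φ x = 0 by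
    obtain ⟨Q, p, hp, hk, hv⟩ := this s
    have hk' : ARSys.HomKilledBy (Ideal.span (s : Set A)) p := by
      intro a ha
      induction ha using Submodule.span_induction with
      | mem x hx => exact hk x hx
      | zero => exact zero_smul _ _
      | add a b _ _ ha hb => rw [add_smul, ha, hb, add_zero]
      | smul c a _ ha => rw [smul_eq_mul, mul_smul, ha, smul_zero]
    refine ⟨Q, p, IsQuot.mk (surj p) (fun a ha => ?_) fun Z φ hφ => hv Z φ fun a ha => hφ a (Ideal.subset_span ha)⟩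
    rw [← cancel_epi p, Linear.comp_smul, Category.comp_id, comp_zero]
    exact hk' a ha
  intro s
  induction s using Finset.induction_on with
  | empty => exact ⟨X, 𝟙 X, inferInstance, by simp, fun Z φ _ x hx => by rw [ev_id] at hx; rw [hx, map_zero]⟩
  | insert a s _ ih =>
    obtain ⟨Q, p, hp, hk, hv⟩ := ih
    refine ⟨cokernel (a • p), p ≫ cokernel.π (a • p), inferInstance, ?_, ?_⟩
    · intro b hb
      rw [← Linear.smul_comp]
      rcases Finset.mem_insert.1 hb with rfl | hb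
      · exact cokernel.condition _
      · rw [hk b hb, zero_comp]
    · intro Z φ hφ x hx
      rw [ev_comp, cokernel_π_eq_zero_iff] at hx
      obtain ⟨w, hw⟩ := hx
      have h1 := hv Z φ (fun b hb => hφ b (Finset.mem_insert_of_mem hb)) (x - act a w)
        (by rw [map_sub, ← ev_smul, hw, sub_self])
      rw [map_sub, ← ev_smul, hφ a (Finset.mem_insert_self a s), ev_zero, sub_zero] at h1
      exact h1

theorem exists_quot_of_hasCoproducts [HasCoproducts.{w} C] (I : Ideal A) (X : C) :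
    ∃ (Q : C) (p : X ⟶ Q), ARSys.IsQuot I p := by
  let d : (∐ fun _ : I => X) ⟶ X := Sigma.desc fun a => (a : A) • 𝟙 X
  have hk : ARSys.HomKilledBy I (cokernel.π d) := fun a ha => by
    have h : (a • 𝟙 X) ≫ cokernel.π d = (Sigma.ι (fun _ : I => X) ⟨a, ha⟩ ≫ d) ≫ cokernel.π d := by
      rw [Sigma.ι_desc]
    rw [Linear.smul_comp, Category.id_comp, Category.assoc, cokernel.condition, comp_zero] at h
    exact h
  refine ⟨cokernel d, cokernel.π d, IsQuot.mk (surj _) (fun a ha => ?_) fun Z φ hφ x hx => ?_⟩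
  · rw [← cancel_epi (cokernel.π d), Linear.comp_smul, Category.comp_id, comp_zero]
    exact hk a ha
  · have hd : d ≫ φ = 0 := Sigma.hom_ext _ _ fun a => by simp [d, Linear.smul_comp, hφ a a.2]
    obtain ⟨w, rfl⟩ := (cokernel_π_eq_zero_iff _ _).1 hx
    rw [← ev_comp, hd, ev_zero]

theorem exists_quot (J : Ideal A) (hJ : J.FG ∨ HasCoproducts.{w} C) (k : ℕ) (X : C) :
    ∃ (Q : C) (p : X ⟶ Q), ARSys.IsQuot (J ^ k) p := by
  rcases hJ with h | h
  · exact exists_quot_of_fg (Ideal.FG.pow h) X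
  · exact exists_quot_of_hasCoproducts _ X

/-- Composition of quotient maps. -/
theorem IsQuot.comp {X Q R : C} {p : X ⟶ Q} {q : Q ⟶ R} (hle : I ≤ I') (hp : ARSys.IsQuot I p)
    (hq : ARSys.IsQuot I' q) : ARSys.IsQuot I' (p ≫ q) := by
  refine IsQuot.mk (fun r => ?_) hq.1 fun Z φ hφ x hx => ?_
  · obtain ⟨y, rfl⟩ := IsQuot.surjective hq r
    obtain ⟨x, rfl⟩ := IsQuot.surjective hp y
    exact ⟨x, ev_comp _ _ _⟩
  · haveI := IsQuot.epi hp
    rw [ev_comp] at hx
    obtain ⟨x', hx', hφ'⟩ := IsQuot.lift_epi hq p hφ hx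
    have := IsQuot.vanish hp (homKilled_mono_ideal hle hφ) (x := x - x') (by rw [map_sub, hx', sub_self])
    rwa [map_sub, hφ', sub_zero] at this

theorem IsQuot.cancel {X Q R : C} {p : X ⟶ Q} {q : Q ⟶ R} [Epi p] (hpq : ARSys.IsQuot I' (p ≫ q)) :
    ARSys.IsQuot I' q := by
  refine IsQuot.mk (fun r => ?_) hpq.1 fun Z φ hφ x hx => ?_
  · obtain ⟨x, hx⟩ := IsQuot.surjective hpq r
    exact ⟨ev p x, by rw [← ev_comp, hx]⟩
  · obtain ⟨y, rfl⟩ := surj p x
    rw [← ev_comp]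
    exact IsQuot.vanish hpq (homKilled_precomp p hφ) (by rw [ev_comp, hx])

end Linear

end Groth.L28.AR
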