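import Groth.Agent.L28.AR.Iso

/-!
Universal images, quotients of adic systems, criteria for being adic up to translation.
-/

set_option autoImplicit false

universe w v u

open CategoryTheory CategoryTheory.Limits Opposite

namespace Groth.L28.AR

open Groth.L28.Elt

variable {C : Type u} [Category.{v} C] [Abelian C]

/-- The system of images of `X[r] ⟶ X`. -/
noncomputable abbrev imSys (X : ARSys.PS C) (r : ℕ) : ARSys.PS C := Abelian.image (canShift X r)

/-- Its inclusion. -/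
noncomputable abbrev imι (X : ARSys.PS C) (r : ℕ) : imSys X r ⟶ X := Abelian.image.ι (canShift X r)

/-- The projection onto it. -/
noncomputable abbrev imπ (X : ARSys.PS C) (r : ℕ) : (ARSys.shift C r).obj X ⟶ imSys X r :=
  Abelian.factorThruImage (canShift X r)

theorem imι_π (X : ARSys.PS C) (r n : ℕ) (x : El (X.obj (op (n + r)))) :
    ev ((imι X r).app (op n)) (ev ((imπ X r).app (op n)) x) =
      ev (ARSys.tr X (Nat.le_add_right n r)) x := by
  have h : (imπ X r).app (op n) ≫ (imι X r).app (op n) = ARSys.tr X (Nat.le_add_right n r) := by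
    rw [← NatTrans.comp_app, Abelian.image.fac]; rfl
  rw [← h]; exact (ev_comp _ _ _).symm

theorem mem_imSys (X : ARSys.PS C) (r n : ℕ) (y : El (X.obj (op n))) :
    (∃ z, ev ((imι X r).app (op n)) z = y) ↔ Lifts X n r y := by
  constructor
  · rintro ⟨z, rfl⟩
    obtain ⟨x, rfl⟩ := app_surj (imπ X r) n z
    exact ⟨x, (imι_π X r n x).symm⟩
  · rintro ⟨x, rfl⟩
    exact ⟨_, imι_π X r n x⟩

theorem isARIso_imι (X : ARSys.PS C) (r : ℕ) : ARSys.IsARIso (imι X r) :=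
  (isARIso_iff_elem _).2 ⟨r, fun n z hz => by
      rw [eq_zero_of_mono (f := (imι X r).app (op (n + r))) hz, map_zero],
    fun n y => (mem_imSys X r n _).2 ⟨y, rfl⟩⟩

theorem imSys_strict (X : ARSys.PS C) {r : ℕ}
    (hr : ∀ (n a b : ℕ) (hna : n ≤ a) (hnb : n ≤ b), n + r ≤ a →
      ∀ x, ∃ z, ev (ARSys.tr X hnb) z = ev (ARSys.tr X hna) x) :
    ARSys.IsStrict (imSys X r) := by
  refine strict_of_surj fun a b hab z => ?_
  obtain ⟨x, rfl⟩ := app_surj (imπ X r) a z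
  obtain ⟨y, hy⟩ := hr a (a + r) (b + r) (Nat.le_add_right a r) (by omega) le_rfl x
  refine ⟨ev ((imπ X r).app (op b)) y, app_inj (imι X r) a ?_⟩
  rw [app_tr, imι_π, tr_tr]
  exact hy.trans (imι_π X r a x).symm

theorem exists_strict_arIso {X : ARSys.PS C} (h : ARSys.IsMLAR X) :
    ∃ (Y : ARSys.PS C) (u : Y ⟶ X), Mono u ∧ ARSys.IsStrict Y ∧ ARSys.IsARIso u := by
  obtain ⟨r, hr⟩ := (isMLAR_iff X).1 h
  exact ⟨_, imι X r, inferInstance, imSys_strict X hr, isARIso_imι X r⟩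

/-- For an isomorphism up to translation from a strict system, the images stabilise to its image. -/
theorem image_eq_of_strict {X Y : ARSys.PS C} (u : Y ⟶ X) (hY : ARSys.IsStrict Y)
    (hu : ARSys.IsARIso u) :
    ∃ r, ∀ s, r ≤ s → ∀ n,
      imageSubobject (ARSys.shiftMap X s n) = imageSubobject (u.app (op n)) := by
  obtain ⟨r, -, hr⟩ := (isARIso_iff_elem u).1 hu
  refine ⟨r, fun s hs n => le_antisymm (le_iff'.2 fun y hy => ?_) (le_iff'.2 fun y hy => ?_)⟩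
  · obtain ⟨x, rfl⟩ := (mem_image_shiftMap X n s y).1 hy
    obtain ⟨z, hz⟩ := hr n (ev (ARSys.tr X (Nat.add_le_add_left hs n)) x)
    exact (mem_imageSubobject _ _).2 ⟨z, by rw [hz, tr_tr]⟩
  · obtain ⟨z, rfl⟩ := (mem_imageSubobject _ _).1 hy
    obtain ⟨w, rfl⟩ := strict_surj hY (Nat.le_add_right n s) z
    exact (mem_image_shiftMap X n s _).2 ⟨_, (app_tr u _ w).symm⟩

theorem isMLAR_of_strict_arIso {X Y : ARSys.PS C} (u : Y ⟶ X) (hY : ARSys.IsStrict Y)
    (hu : ARSys.IsARIso u) : ARSys.IsMLAR X := by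
  obtain ⟨r, hr⟩ := image_eq_of_strict u hY hu
  exact ⟨r, fun s hs n => (hr s hs n).trans (hr r le_rfl n).symm⟩

theorem isMLAR_iff_exists_strict (X : ARSys.PS C) : ARSys.IsMLAR X ↔
    ∃ (Y : ARSys.PS C) (u : Y ⟶ X), ARSys.IsStrict Y ∧ ARSys.IsARIso u := by
  refine ⟨fun h => ?_, fun ⟨Y, u, hY, hu⟩ => isMLAR_of_strict_arIso u hY hu⟩
  obtain ⟨Y, u, -, hY, hu⟩ := exists_strict_arIso h
  exact ⟨Y, u, hY, hu⟩

theorem isMLAR_iff_isML_and (X : ARSys.PS C) :
    ARSys.IsMLAR X ↔ (ARSys.IsML X ∧ ∃ (X' : ARSys.PS C) (ι : X' ⟶ X), Mono ι ∧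
      (∀ n : ℕ, ∃ r₀ : ℕ, ∀ r : ℕ, r₀ ≤ r →
        imageSubobject (ι.app (op n)) = imageSubobject (ARSys.shiftMap X r n)) ∧
      ARSys.IsARNull (cokernel ι)) := by
  constructor
  · intro h
    obtain ⟨Y, u, hm, hY, hu⟩ := exists_strict_arIso h
    obtain ⟨r, hr⟩ := image_eq_of_strict u hY hu
    obtain ⟨t, ht⟩ := h
    exact ⟨fun n => ⟨t, fun s hs => ht s hs n⟩, Y, u, hm, fun n => ⟨r, fun s hs => (hr s hs n).symm⟩, hu.2⟩
  · rintro ⟨-, X', ι, -, hι, hnull⟩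
    obtain ⟨r, hr⟩ := (isARNull_iff _).1 hnull
    refine ⟨r, fun s hs n => le_antisymm (image_antitone X n hs) (le_iff'.2 fun y hy => ?_)⟩
    obtain ⟨x, rfl⟩ := (mem_image_shiftMap X n r y).1 hy
    obtain ⟨r₀, hr₀⟩ := hι n
    refine le_iff.1 (image_antitone X n (le_max_right r₀ s)) ?_
    rw [← hr₀ _ (le_max_left _ _), mem_imageSubobject, ← cokernel_app, app_tr]
    exact hr n _

/-! ### morphisms and extensions of adic systems -/

section Linear

variable {A : Type w} [CommRing A] [Linear A C] {J : Ideal A}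

theorem killed_mono {X Y : ARSys.PS C} (f : X ⟶ Y) [Mono f] (h : ARSys.TermKilled J Y) :
    ARSys.TermKilled J X := fun n =>
  haveI := app_mono f n
  killed_of_mono (f.app (op n)) (h n)

theorem killed_epi {X Y : ARSys.PS C} (f : X ⟶ Y) [Epi f] (h : ARSys.TermKilled J X) :
    ARSys.TermKilled J Y := fun n =>
  haveI := app_epi f n
  killed_of_epi (f.app (op n)) (h n)

theorem isAdic_X₃ {S : ShortComplex (ARSys.PS C)} (hS : S.ShortExact) (h₁ : ARSys.IsStrict S.X₁)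
    (h₂ : ARSys.IsAdic J S.X₂) : ARSys.IsAdic J S.X₃ := by
  haveI := hS.epi_g
  refine isAdic_mk (killed_epi S.g h₂.1) (strict_of_surj fun a b hab z => ?_)
    fun a b hab Z φ hφ x hx => ?_
  · obtain ⟨y, rfl⟩ := app_surj S.g a z
    obtain ⟨w, rfl⟩ := strict_surj (adic_strict h₂) hab y
    exact ⟨ev (S.g.app (op b)) w, (app_tr S.g hab w).symm⟩
  · obtain ⟨y, rfl⟩ := app_surj S.g b x
    rw [← app_tr] at hx
    obtain ⟨t, ht⟩ := exact_app hS.exact a _ hx
    obtain ⟨w, rfl⟩ := strict_surj h₁ hab t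
    have h := adic_vanish h₂ hab (homKilled_precomp (S.g.app (op b)) hφ)
      (x := y - ev (S.f.app (op b)) w) (by rw [map_sub, ← app_tr, ht, sub_self])
    rw [map_sub, ev_comp, ev_comp, zero_app', map_zero, sub_zero] at h
    exact h

theorem isStrict_X₁ {S : ShortComplex (ARSys.PS C)} (hS : S.ShortExact) (k₂ : ARSys.TermKilled J S.X₂)
    (h₂ : ARSys.IsStrict S.X₂) (h₃ : ARSys.IsAdic J S.X₃) : ARSys.IsStrict S.X₁ := by
  haveI := hS.mono_f
  refine strict_of_surj fun a b hab x => ?_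
  obtain ⟨y, hy⟩ := strict_surj h₂ hab (ev (S.f.app (op a)) x)
  have hg : ev (ARSys.tr S.X₃ hab) (ev (S.g.app (op b)) y) = 0 := by
    rw [← app_tr, hy, zero_app']
  haveI := hS.epi_g
  haveI := app_epi S.g b
  obtain ⟨y', hy', hy'0⟩ := IsQuot.lift_epi (h₃.2 a b hab) (S.g.app (op b))
    (homKilled_of_killed (k₂ a) (ARSys.tr S.X₂ hab)) hg
  obtain ⟨w, hw⟩ := exact_app hS.exact b (y - y') (by rw [map_sub, hy', sub_self])
  exact ⟨w, app_inj S.f a (by rw [app_tr, hw, map_sub, hy, hy'0, sub_zero])⟩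

theorem isAdic_X₂ {S : ShortComplex (ARSys.PS C)} (hS : S.ShortExact) (k₂ : ARSys.TermKilled J S.X₂)
    (h₁ : ARSys.IsAdic J S.X₁) (h₃ : ARSys.IsAdic J S.X₃) : ARSys.IsAdic J S.X₂ := by
  haveI := hS.mono_f
  haveI := hS.epi_g
  refine isAdic_mk k₂ (strict_of_surj fun a b hab z => ?_) fun a b hab Z φ hφ x hx => ?_
  · obtain ⟨w, hw⟩ := strict_surj (adic_strict h₃) hab (ev (S.g.app (op a)) z)
    obtain ⟨y, rfl⟩ := app_surj S.g b w
    obtain ⟨t, ht⟩ := exact_app hS.exact a (z - ev (ARSys.tr S.X₂ hab) y)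
      (by rw [map_sub, app_tr, hw, sub_self])
    obtain ⟨s, rfl⟩ := strict_surj (adic_strict h₁) hab t
    exact ⟨y + ev (S.f.app (op b)) s, by rw [map_add, ← app_tr, ht, add_sub_cancel]⟩
  · haveI := app_epi S.g b
    obtain ⟨x', hx', hx'0⟩ := IsQuot.lift_epi (h₃.2 a b hab) (S.g.app (op b))
      (homKilled_lift hφ (homKilled_of_killed (k₂ a) (ARSys.tr S.X₂ hab)))
      (y := ev (S.g.app (op b)) x) (by rw [← app_tr, hx, map_zero])
    have h1 : ev φ x' = 0 := by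
      rw [← biprod.lift_fst φ (ARSys.tr S.X₂ hab), ev_comp, hx'0, map_zero]
    have h2 : ev (ARSys.tr S.X₂ hab) x' = 0 := by
      rw [← biprod.lift_snd φ (ARSys.tr S.X₂ hab), ev_comp, hx'0, map_zero]
    obtain ⟨t, ht⟩ := exact_app hS.exact b (x - x') (by rw [map_sub, hx', sub_self])
    have := adic_vanish h₁ hab (homKilled_precomp (S.f.app (op b)) hφ) (x := t)
      (app_inj S.f a (by rw [app_tr, ht, map_sub, hx, h2, sub_zero, map_zero]))
    rw [ev_comp, ht, map_sub, h1, sub_zero] at this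
    exact this

theorem isMLAR_X₁ {S : ShortComplex (ARSys.PS C)} (hS : S.ShortExact) (k₂ : ARSys.TermKilled J S.X₂)
    (h₂ : ARSys.IsMLAR S.X₂) (h₃ : ARSys.IsARAdic J S.X₃) : ARSys.IsMLAR S.X₁ := by
  haveI := hS.mono_f
  haveI := hS.epi_g
  obtain ⟨-, Y, u, hY, hu⟩ := h₃
  obtain ⟨r, ψ, hψ⟩ := exists_isInv hu
  obtain ⟨r₂, hr₂⟩ := (isMLAR_iff _).1 h₂
  refine (isMLAR_iff _).2 ⟨r + r₂, fun n a b hna hnb hra x => ?_⟩
  have ha : n + r ≤ a := by omega
  let M := max b (n + r)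
  obtain ⟨z, hz⟩ := hr₂ (n + r) a (M + r) ha (by omega) (by omega) (ev (S.f.app (op a)) x)
  have hMn : n ≤ M := hnb.trans (le_max_left _ _)
  -- the lift of the image in `X₃` vanishes at level `n`
  let y := ev (ψ M) (ev (S.g.app (op (M + r))) z)
  have hy : ev (ARSys.tr Y hMn) y = 0 := by
    rw [hψ.2.2 n M hMn, ← app_tr, hz, app_tr, zero_app', map_zero, map_zero]
  have huy : ev (u.app (op M)) y = ev (S.g.app (op M)) (ev (ARSys.tr S.X₂ (Nat.le_add_right M r)) z) := by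
    rw [hψ.2.1, app_tr]
  -- modulo the kernel of `X₂(M) ⟶ X₂(n)`
  haveI := app_epi S.g M
  have hk : ARSys.HomKilledBy (J ^ (n + 1))
      (cokernel.π (kernel.ι (ARSys.tr S.X₂ hMn) ≫ S.g.app (op M))) := by
    refine (homKilled_iff _).2 fun c hc w => ?_
    obtain ⟨v, rfl⟩ := app_surj S.g M w
    rw [← ev_act, cokernel_π_eq_zero_iff]
    obtain ⟨k, hk⟩ := (mem_range_kernel_ι (ARSys.tr S.X₂ hMn) (act c v)).2
      (by rw [ev_act, killed_act (k₂ n) hc])
    exact ⟨k, by rw [ev_comp, hk]⟩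
  have h0 := adic_vanish hY hMn (homKilled_precomp (u.app (op M)) hk) hy
  rw [ev_comp, huy, cokernel_π_eq_zero_iff] at h0
  obtain ⟨k, hk'⟩ := h0
  rw [ev_comp] at hk'
  obtain ⟨t, ht⟩ := exact_app hS.exact M
    (ev (ARSys.tr S.X₂ (Nat.le_add_right M r)) z - ev (kernel.ι (ARSys.tr S.X₂ hMn)) k)
    (by rw [map_sub, hk', sub_self])
  refine ⟨ev (ARSys.tr S.X₁ (le_max_left b (n + r) : b ≤ M)) t, app_inj S.f n ?_⟩
  rw [tr_tr, app_tr, ht, map_sub, (mem_range_kernel_ι _ _).1 ⟨k, rfl⟩, sub_zero, app_tr, tr_tr,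
    ← tr_tr S.X₂ (Nat.le_add_right n r) (show n + r ≤ M + r by omega), hz, tr_tr]

theorem isARAdic_X₃ {S : ShortComplex (ARSys.PS C)} (hS : S.ShortExact)
    (h₁ : ARSys.IsMLAR S.X₁) (h₂ : ARSys.IsARAdic J S.X₂) : ARSys.IsARAdic J S.X₃ := by
  haveI := hS.mono_f
  haveI := hS.epi_g
  obtain ⟨k₂, Y, u, hY, hu⟩ := h₂
  obtain ⟨r, ψ, hψ⟩ := exists_isInv hu
  obtain ⟨r₁, hr₁⟩ := (isMLAR_iff _).1 h₁
  -- the kernel of `Y ⟶ X₃`
  let ι := kernel.ι (u ≫ S.g)
  let R := r + r₁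
  have hK : ∀ (n a b : ℕ) (hna : n ≤ a) (hnb : n ≤ b), n + R ≤ a → ∀ y : El (Y.obj (op a)),
      ev (S.g.app (op a)) (ev (u.app (op a)) y) = 0 →
      ∃ z, ev (S.g.app (op b)) (ev (u.app (op b)) z) = 0 ∧
        ev (ARSys.tr Y hnb) z = ev (ARSys.tr Y hna) y := by
    intro n a b hna hnb hRa y hy
    obtain ⟨t, ht⟩ := exact_app hS.exact a _ hy
    obtain ⟨s, hs⟩ := hr₁ (n + r) a (b + r) (by omega) (by omega) (by omega) t
    refine ⟨ev (ψ b) (ev (S.f.app (op (b + r))) s), by rw [hψ.2.1, app_tr, zero_app', map_zero], ?_⟩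
    rw [hψ.2.2 n b hnb, ← app_tr, hs, app_tr, ht, ← app_tr, hψ.1, tr_tr]
  let w : (ARSys.shift C R).obj (kernel (u ≫ S.g)) ⟶ Y := canShift (kernel (u ≫ S.g)) R ≫ ι
  have memw : ∀ n (y : El (Y.obj (op n))), (∃ x, ev (w.app (op n)) x = y) ↔
      ∃ z : El (Y.obj (op (n + R))), ev (S.g.app (op (n + R))) (ev (u.app (op (n + R))) z) = 0 ∧
        ev (ARSys.tr Y (Nat.le_add_right n R)) z = y := by
    intro n y
    have e : ∀ x : El ((kernel (u ≫ S.g)).obj (op (n + R))), ev (w.app (op n)) x =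
        ev (ARSys.tr Y (Nat.le_add_right n R)) (ev (ι.app (op (n + R))) x) := fun x => by
      rw [← app_tr]
      exact ev_comp _ (ι.app (op n)) x
    constructor
    · rintro ⟨x, rfl⟩
      refine ⟨ev (ι.app (op (n + R))) x, ?_, (e x).symm⟩
      rw [← ev_comp, ← NatTrans.comp_app]
      exact (kernel_app (u ≫ S.g) _ _).2 ⟨x, rfl⟩
    · rintro ⟨z, hz, rfl⟩
      obtain ⟨x, rfl⟩ := (kernel_app (u ≫ S.g) _ z).1 (by rw [NatTrans.comp_app, ev_comp, hz])
      exact ⟨x, e x⟩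
  have hwg : w ≫ u ≫ S.g = 0 := by
    show (canShift _ _ ≫ ι) ≫ _ = 0
    rw [Category.assoc, kernel.condition, comp_zero]
  let v : cokernel w ⟶ S.X₃ := cokernel.desc w (u ≫ S.g) hwg
  have hv : ∀ n y, ev (v.app (op n)) (ev ((cokernel.π w).app (op n)) y) =
      ev (S.g.app (op n)) (ev (u.app (op n)) y) := fun n y => by
    rw [← ev_comp, ← NatTrans.comp_app, cokernel.π_desc, NatTrans.comp_app, ev_comp]
  refine ⟨killed_epi S.g k₂, cokernel w, v,
    isAdic_mk (killed_epi (cokernel.π w) hY.1) (strict_of_surj fun a b hab q => ?_)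
      fun a b hab Z φ hφ q hq => ?_, (isARIso_iff_elem v).2 ⟨R, fun n q hq => ?_, fun n x => ?_⟩⟩
  · obtain ⟨y, rfl⟩ := app_surj (cokernel.π w) a q
    obtain ⟨y', rfl⟩ := strict_surj (adic_strict hY) hab y
    exact ⟨ev ((cokernel.π w).app (op b)) y', (app_tr (cokernel.π w) hab y').symm⟩
  · obtain ⟨y, rfl⟩ := app_surj (cokernel.π w) b q
    rw [← app_tr, cokernel_app, memw] at hq
    obtain ⟨z, hz, hzy⟩ := hq
    obtain ⟨z', hz', hz'y⟩ := hK a (a + R) (b + R) (Nat.le_add_right a R) (by omega) le_rfl z hz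
    have h := adic_vanish hY hab (homKilled_precomp ((cokernel.π w).app (op b)) hφ)
      (x := y - ev (ARSys.tr Y (Nat.le_add_right b R)) z')
      (by rw [map_sub, tr_tr, hz'y, hzy, sub_self])
    have h' : ev ((cokernel.π w).app (op b)) (ev (ARSys.tr Y (Nat.le_add_right b R)) z') = 0 :=
      (cokernel_app w b _).2 ((memw b _).2 ⟨z', hz', rfl⟩)
    rw [map_sub, ev_comp, ev_comp, h', map_zero, sub_zero] at h
    exact h
  · obtain ⟨y, rfl⟩ := app_surj (cokernel.π w) (n + R) q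
    rw [← app_tr, cokernel_app, memw]
    exact ⟨y, by rw [← hv, hq], rfl⟩
  · obtain ⟨y, rfl⟩ := app_surj S.g (n + R) x
    refine ⟨ev ((cokernel.π w).app (op n)) (ev (ψ n) (ev (ARSys.tr S.X₂ (show n + r ≤ n + R by omega)) y)), ?_⟩
    rw [hv, hψ.2.1, tr_tr, app_tr]

theorem arAdic_iff_quot_shift_strict {X : ARSys.PS C} (hX : ARSys.IsStrict X)
    (kX : ARSys.TermKilled J X) : ARSys.IsARAdic J X ↔
      ∃ (r : ℕ) (Y : ARSys.PS C) (q : (ARSys.shift C r).obj X ⟶ Y),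
        (∀ n : ℕ, ARSys.IsQuot (J ^ (n + 1)) (q.app (op n))) ∧ ARSys.IsAdic J Y := by
  constructor
  · rintro ⟨-, Y, u, hY, hu⟩
    obtain ⟨r, ψ, hψ⟩ := exists_isInv hu
    refine ⟨r, Y, hψ.hom, fun n => ?_, hY⟩
    refine IsQuot.mk (fun y => ?_) (hY.1 n) fun Z φ hφ x hx => ?_
    · obtain ⟨y', rfl⟩ := strict_surj (adic_strict hY) (Nat.le_add_right n r) y
      exact ⟨ev (u.app (op (n + r))) y', hψ.1 n y'⟩
    · let x₀ : El (X.obj (op (n + r))) := x
      obtain ⟨x', hx'⟩ := strict_surj hX (Nat.le_add_right (n + r) r) x₀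
      let y := ev (ψ (n + r)) x'
      have huy : ev (u.app (op (n + r))) y = x₀ := by rw [hψ.2.1, hx']
      have hy : ev (ARSys.tr Y (Nat.le_add_right n r)) y = 0 := by
        rw [← hψ.1 n, huy]; exact hx
      let φ₀ : X.obj (op (n + r)) ⟶ Z := φ
      have hφ₀ : ARSys.HomKilledBy (J ^ (n + 1)) φ₀ := hφ
      have := adic_vanish hY (Nat.le_add_right n r) (homKilled_precomp (u.app (op (n + r))) hφ₀) hy
      rw [ev_comp, huy] at this
      exact this
  · rintro ⟨r, Y, q, hq, hY⟩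
    choose g hg hgu using fun n => (hq n).2 _ (ARSys.shiftMap X r n)
      (homKilled_of_killed (kX n) _)
    have hg' : ∀ n (x : El (X.obj (op (n + r)))), ev (g n) (ev (q.app (op n)) x) =
        ev (ARSys.tr X (Nat.le_add_right n r)) x := fun n x => by
      exact (ev_comp _ _ _).symm.trans (ev_congr (hg n) x)
    let u : Y ⟶ X := mkHom g fun a b hab => Groth.L28.Elt.hom_ext fun y => by
      obtain ⟨x, rfl⟩ := IsQuot.surjective (hq b) y
      let x₀ : El (X.obj (op (b + r))) := x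
      have e : ev (ARSys.tr Y hab) (ev (q.app (op b)) x₀) =
          ev (q.app (op a)) (ev (ARSys.tr X (Nat.add_le_add_right hab r)) x₀) := (app_tr q hab x₀).symm
      show ev (ARSys.tr Y hab ≫ g a) (ev (q.app (op b)) x₀) = ev (g b ≫ ARSys.tr X hab) (ev (q.app (op b)) x₀)
      rw [ev_comp, ev_comp, e, hg', hg', tr_tr, tr_tr]
    refine ⟨kX, Y, u, hY, isARIso_of_isInv (r := r) (ψ := fun n => q.app (op n))
      ⟨fun n y => ?_, fun n x => hg' n x, fun a b hab x => (app_tr q hab x).symm⟩⟩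
    obtain ⟨x, rfl⟩ := IsQuot.surjective (hq (n + r)) y
    exact (congrArg (ev (q.app (op n))) (hg' (n + r) x)).trans (app_tr q (Nat.le_add_right n r) x)

theorem arAdic_of_fker (hJ : J.FG ∨ HasCoproducts.{w} C) {X : ARSys.PS C} (hX : ARSys.IsStrict X)
    (kX : ARSys.TermKilled J X) (r : ℕ)
    (h : ∀ (i : ℕ), r ≤ i + 1 → ∀ (Z : C) (φ : X.obj (op (i + 1)) ⟶ Z),
      ARSys.HomKilledBy (J ^ (i + 1 - r)) φ → ∀ x, ev (ARSys.tr X (Nat.le_succ i)) x = 0 → ev φ x = 0) :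
    ARSys.IsARAdic J X := by
  choose Q p hp using fun n => exists_quot J hJ (n + 1) (X.obj (op (n + r)))
  have hker : ∀ (a : ℕ) (N : ℕ) (hN : a + r ≤ N) (Z : C) (φ : X.obj (op N) ⟶ Z),
      ARSys.HomKilledBy (J ^ (a + 1)) φ → ∀ x, ev (ARSys.tr X hN) x = 0 → ev φ x = 0 := by
    intro a N hN
    induction N, hN using Nat.le_induction with
    | base => intro Z φ _ x hx; rw [tr_rfl] at hx; rw [hx, map_zero]
    | succ N hN ih =>
      intro Z φ hφ x hx
      haveI : Epi (ARSys.tr X (Nat.le_succ N)) := hX _ _ _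
      obtain ⟨d, hd⟩ := exists_desc (ARSys.tr X (Nat.le_succ N)) φ fun y hy =>
        h N (by omega) Z φ (homKilled_mono_ideal (pow_mono J (by omega)) hφ) y hy
      rw [← hd, ev_comp]
      refine ih Z d ((homKilled_iff d).2 fun c hc y => ?_) _ (by rw [tr_tr]; exact hx)
      obtain ⟨y', rfl⟩ := strict_surj hX (Nat.le_succ N) y
      rw [← ev_act, ← ev_comp, hd, (homKilled_iff φ).1 hφ c hc]
  have hqt : ∀ a b (hab : a ≤ b),
      ARSys.IsQuot (J ^ (a + 1)) (ARSys.tr X (Nat.add_le_add_right hab r) ≫ p a) := by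
    intro a b hab
    refine IsQuot.mk (fun y => ?_) (hp a).1 fun Z φ hφ x hx => ?_
    · obtain ⟨z, rfl⟩ := IsQuot.surjective (hp a) y
      obtain ⟨z', rfl⟩ := strict_surj hX (Nat.add_le_add_right hab r) z
      exact ⟨z', ev_comp _ _ _⟩
    · haveI : Epi (ARSys.tr X (Nat.add_le_add_right hab r)) := hX _ _ _
      rw [ev_comp] at hx
      obtain ⟨x', hx', hφ'⟩ := IsQuot.lift_epi (hp a) (ARSys.tr X (Nat.add_le_add_right hab r)) hφ hx
      have := hker a _ (Nat.add_le_add_right hab r) Z φ hφ (x - x') (by rw [map_sub, hx', sub_self])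
      rwa [map_sub, hφ', sub_zero] at this
  choose t ht htu using fun a b (hab : a ≤ b) => (hp b).2 _
    (ARSys.tr X (Nat.add_le_add_right hab r) ≫ p a)
    (homKilled_of_killed (killed_mono_ideal (pow_mono J (by omega)) (hp a).1) _)
  have hepi : ∀ n, Epi (p n) := fun n => IsQuot.epi (hp n)
  let Y : ARSys.PS C :=
    { obj := fun n => Q n.unop
      map := fun {m n} f => t n.unop m.unop (leOfHom f.unop)
      map_id := fun n => by
        haveI := hepi n.unop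
        rw [← cancel_epi (p n.unop), ht, tr_self, Category.id_comp, Category.comp_id]
      map_comp := fun {a b c} f g => by
        haveI := hepi a.unop
        rw [← cancel_epi (p a.unop), ht, reassoc_of% (ht b.unop a.unop (leOfHom f.unop)), ht, tr_comp_assoc] }
  let q : (ARSys.shift C r).obj X ⟶ Y := mkHom p fun a b hab => (ht a b hab).symm
  refine (arAdic_iff_quot_shift_strict hX kX).2 ⟨r, Y, q, hp, fun n => (hp n).1, fun a b hab => ?_⟩
  haveI := hepi b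
  exact IsQuot.cancel (p := p b) (by
    show ARSys.IsQuot (J ^ (a + 1)) (p b ≫ t a b hab)
    rw [ht]; exact hqt a b hab)

theorem fker_of_arAdic {X : ARSys.PS C} (hX : ARSys.IsStrict X) (h : ARSys.IsARAdic J X) :
    ∃ r, ∀ (i : ℕ) (Z : C) (φ : X.obj (op (i + 1)) ⟶ Z),
      ARSys.HomKilledBy (J ^ (i + 1 - r)) φ → ∀ x, ev (ARSys.tr X (Nat.le_succ i)) x = 0 → ev φ x = 0 := by
  obtain ⟨-, Y, u, hY, hu⟩ := h
  obtain ⟨r, ψ, hψ⟩ := exists_isInv hu
  refine ⟨r + 1, fun i Z φ hφ x hx => ?_⟩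
  by_cases hi : i + 1 ≤ r
  · have : act (1 : A) x = x := act_one x
    rw [← this]
    exact (homKilled_iff φ).1 hφ 1 (by rw [Nat.sub_eq_zero_of_le (by omega), pow_zero, Ideal.one_eq_top]; trivial) x
  obtain ⟨x', hx'⟩ := strict_surj hX (Nat.le_add_right (i + 1) r) x
  have hm : i - r ≤ i + 1 := by omega
  have hy : ev (ARSys.tr Y hm) (ev (ψ (i + 1)) x') = 0 := by
    rw [hψ.2.2 _ _ hm, ← tr_tr X (show i - r + r ≤ i by omega) (show i ≤ i + 1 + r by omega),
      ← tr_tr X (Nat.le_succ i) (Nat.le_add_right (i + 1) r), hx', hx, map_zero, map_zero]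
  have := adic_vanish hY hm (homKilled_precomp (u.app (op (i + 1)))
    (homKilled_mono_ideal (pow_mono J (by omega)) hφ)) hy
  rw [ev_comp, hψ.2.1, hx'] at this
  exact this

/-- An extension, killed termwise, of systems adic up to translation is adic up to translation. -/
theorem isARAdic_X₂ (hJ : J.FG ∨ HasCoproducts.{w} C) {S : ShortComplex (ARSys.PS C)}
    (hS : S.ShortExact) (k₂ : ARSys.TermKilled J S.X₂) (h₁ : ARSys.IsARAdic J S.X₁)
    (h₃ : ARSys.IsARAdic J S.X₃) : ARSys.IsARAdic J S.X₂ := by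
  haveI := hS.mono_f
  haveI := hS.epi_g
  have hML : ARSys.IsMLAR S.X₂ := isMLAR_X₂ hS (isMLAR_of_isARAdic h₁) (isMLAR_of_isARAdic h₃)
  obtain ⟨X', e, he, hX', heI⟩ := exists_strict_arIso hML
  refine isARAdic_of_arIso_from k₂ heI ?_
  obtain ⟨c, -, hce⟩ := (isARIso_iff_elem e).1 heI
  obtain ⟨-, Y₁, u₁, hY₁, hu₁⟩ := h₁
  obtain ⟨r₁, ψ₁, hψ₁⟩ := exists_isInv hu₁
  obtain ⟨-, Y₃, u₃, hY₃, hu₃⟩ := h₃
  obtain ⟨r₃, ψ₃, hψ₃⟩ := exists_isInv hu₃
  refine arAdic_of_fker hJ hX' (killed_mono e k₂) (r₁ + r₃ + 2) fun i hi Z φ hφ x hx => ?_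
  let k := i - r₃
  let k' := k - r₁
  let L := i + 1 + c
  let P := L + r₁
  obtain ⟨z, hz⟩ := strict_surj hX' (show i + 1 ≤ P + r₃ by omega) x
  let z₂ := ev (e.app (op (P + r₃))) z
  have hz₂ : ev (ARSys.tr S.X₂ (show i ≤ P + r₃ by omega)) z₂ = 0 := by
    rw [← app_tr, ← tr_tr X' (Nat.le_succ i) (show i + 1 ≤ P + r₃ by omega), hz, hx, map_zero]
  let y₃ := ev (ψ₃ P) (ev (S.g.app (op (P + r₃))) z₂)
  have hy₃ : ev (ARSys.tr Y₃ (show k ≤ P by omega)) y₃ = 0 := by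
    rw [hψ₃.2.2 k P (by omega), ← tr_tr S.X₃ (show k + r₃ ≤ i by omega) (show i ≤ P + r₃ by omega),
      ← app_tr S.g (show i ≤ P + r₃ by omega) z₂, hz₂, map_zero, map_zero, map_zero]
  -- the test map on `X₂ P`
  haveI : Mono (e.app (op (i + 1))) := app_mono e _
  obtain ⟨l, hl⟩ := exists_lift (e.app (op (i + 1))) (ARSys.tr S.X₂ (show i + 1 ≤ P by omega))
    fun w => by
      obtain ⟨v, hv⟩ := hce (i + 1) (ev (ARSys.tr S.X₂ (show i + 1 + c ≤ P by omega)) w)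
      exact ⟨v, by rw [hv, tr_tr]⟩
  have hkk : J ^ (k + 1) ≤ J ^ (i + 1 - (r₁ + r₃ + 2)) := pow_mono J (by omega)
  let Φ := biprod.lift (l ≫ φ) (ARSys.tr S.X₂ (show k ≤ P by omega))
  have hΦ : ARSys.HomKilledBy (J ^ (k + 1)) Φ :=
    homKilled_lift (homKilled_precomp l (homKilled_mono_ideal hkk hφ)) (homKilled_of_killed (k₂ k) _)
  haveI : Epi (S.g.app (op P)) := app_epi S.g P
  have hk : ARSys.HomKilledBy (J ^ (k + 1)) (cokernel.π (kernel.ι Φ ≫ S.g.app (op P))) := by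
    refine (homKilled_iff _).2 fun a ha w => ?_
    obtain ⟨v, rfl⟩ := app_surj S.g P w
    rw [← ev_act, cokernel_π_eq_zero_iff]
    obtain ⟨q, hq⟩ := (mem_range_kernel_ι Φ (act a v)).2 ((homKilled_iff Φ).1 hΦ a ha v)
    exact ⟨q, by rw [ev_comp, hq]⟩
  have h0 := adic_vanish hY₃ (show k ≤ P by omega) (homKilled_precomp (u₃.app (op P)) hk) hy₃
  rw [ev_comp, hψ₃.2.1, ← app_tr, cokernel_π_eq_zero_iff] at h0
  obtain ⟨q, hq⟩ := h0
  rw [ev_comp] at hq
  let w := ev (kernel.ι Φ) q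
  have hΦw : ev Φ w = 0 := (mem_range_kernel_ι Φ w).1 ⟨q, rfl⟩
  have hw1 : ev φ (ev l w) = 0 := by
    rw [← ev_comp, ← biprod.lift_fst (l ≫ φ) (ARSys.tr S.X₂ (show k ≤ P by omega)), ev_comp]
    show ev biprod.fst (ev Φ w) = 0
    rw [hΦw, map_zero]
  have hw2 : ev (ARSys.tr S.X₂ (show k ≤ P by omega)) w = 0 := by
    rw [← biprod.lift_snd (l ≫ φ) (ARSys.tr S.X₂ (show k ≤ P by omega)), ev_comp]
    show ev biprod.snd (ev Φ w) = 0
    rw [hΦw, map_zero]
  obtain ⟨d, hd⟩ := exact_app hS.exact P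
    (ev (ARSys.tr S.X₂ (Nat.le_add_right P r₃)) z₂ - w) (by rw [map_sub, hq, sub_self])
  have hd0 : ev (ARSys.tr S.X₁ (show k ≤ P by omega)) d = 0 := by
    refine app_inj S.f k ?_
    rw [app_tr, hd, map_sub, hw2, sub_zero, map_zero, tr_tr,
      ← tr_tr S.X₂ (show k ≤ i by omega) (show i ≤ P + r₃ by omega), hz₂, map_zero]
  -- the `X₁`-part
  let y₁ := ev (ψ₁ L) d
  have hy₁ : ev (ARSys.tr Y₁ (show k' ≤ L by omega)) y₁ = 0 := by
    rw [hψ₁.2.2 k' L (by omega), ← tr_tr S.X₁ (show k' + r₁ ≤ k by omega) (show k ≤ P by omega),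
      hd0, map_zero, map_zero]
  obtain ⟨l', hl'⟩ := exists_lift (e.app (op (i + 1))) (ARSys.tr S.X₂ (show i + 1 ≤ L by omega))
    fun w => by
      obtain ⟨v, hv⟩ := hce (i + 1) w
      exact ⟨v, hv⟩
  have h1 := adic_vanish hY₁ (show k' ≤ L by omega)
    (homKilled_precomp (u₁.app (op L) ≫ S.f.app (op L) ≫ l')
      (homKilled_mono_ideal (pow_mono J (by omega)) hφ)) hy₁
  rw [ev_comp, ev_comp, ev_comp, hψ₁.2.1] at h1
  have e1 : ev l' (ev (S.f.app (op L)) (ev (ARSys.tr S.X₁ (Nat.le_add_right L r₁)) d)) = x - ev l w := by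
    apply app_inj e (i + 1)
    rw [← ev_comp l', hl', app_tr, hd, map_sub, map_sub, map_sub, tr_tr, tr_tr, tr_tr, ← app_tr e,
      hz, ← ev_comp l, hl]
  rw [e1, map_sub, hw1, sub_zero] at h1
  exact h1

end Linear

end Groth.L28.AR
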