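import Groth.Agent.L28.AR.Graded

/-!
Strict subsystems of an adic system with Noetherian components.
-/

set_option autoImplicit false

universe w v u

open CategoryTheory CategoryTheory.Limits Opposite

namespace Groth.L28.AR

open Groth.L28.Elt

variable {C : Type u} [Category.{v} C] [Abelian C]

theorem exists_lift_sys {X Y Z : ARSys.PS C} (f : X ⟶ Y) [Mono f] (g : Z ⟶ Y)
    (h : ∀ n z, ∃ x, ev (f.app (op n)) x = ev (g.app (op n)) z) : ∃ l : Z ⟶ X, l ≫ f = g := by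
  choose l hl using fun n => (haveI := app_mono f n; exists_lift (f.app (op n)) (g.app (op n)) (h n))
  refine ⟨mkHom l fun a b hab => ?_, hom_ext' fun n => hl n⟩
  haveI := app_mono f a
  rw [← cancel_mono (f.app (op a)), Category.assoc, Category.assoc, hl, nat_tr f hab,
    ← Category.assoc (l b), hl, nat_tr g hab]

/-- The elements of a subsystem at a level. -/
noncomputable def lvl {X : ARSys.PS C} (Z : Subobject X) (n : ℕ) : Subobject (X.obj (op n)) :=
  imageSubobject (Z.arrow.app (op n))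

theorem mem_lvl {X : ARSys.PS C} (Z : Subobject X) (n : ℕ) (x : El (X.obj (op n))) :
    x ∈ elts (lvl Z n) ↔ ∃ z, ev (Z.arrow.app (op n)) z = x :=
  mem_imageSubobject _ _

theorem le_iff_lvl {X : ARSys.PS C} (Z W : Subobject X) : Z ≤ W ↔ ∀ n, lvl Z n ≤ lvl W n := by
  constructor
  · intro h n
    refine le_iff'.2 fun x hx => ?_
    obtain ⟨z, rfl⟩ := (mem_lvl Z n x).1 hx
    refine (mem_lvl W n _).2 ⟨ev ((Subobject.ofLE Z W h).app (op n)) z, ?_⟩
    rw [← ev_comp, ← NatTrans.comp_app, Subobject.ofLE_arrow]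
  · intro h
    obtain ⟨l, hl⟩ := exists_lift_sys W.arrow Z.arrow fun n z =>
      (mem_lvl W n _).1 (le_iff.1 (h n) ((mem_lvl Z n _).2 ⟨z, rfl⟩))
    exact Subobject.le_of_comm l hl

theorem lvl_tr {X : ARSys.PS C} (Z : Subobject X) {a b : ℕ} (h : a ≤ b) {x : El (X.obj (op b))}
    (hx : x ∈ elts (lvl Z b)) : ev (ARSys.tr X h) x ∈ elts (lvl Z a) := by
  obtain ⟨z, rfl⟩ := (mem_lvl Z b x).1 hx
  exact (mem_lvl Z a _).2 ⟨_, app_tr Z.arrow h z⟩

theorem lvl_lift {X : ARSys.PS C} {Z : Subobject X}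
    (hZ : ARSys.IsStrict (Subobject.underlying.obj Z : ARSys.PS C)) {a b : ℕ} (h : a ≤ b)
    {x : El (X.obj (op a))} (hx : x ∈ elts (lvl Z a)) :
    ∃ y ∈ elts (lvl Z b), ev (ARSys.tr X h) y = x := by
  obtain ⟨z, rfl⟩ := (mem_lvl Z a x).1 hx
  obtain ⟨w, rfl⟩ := strict_surj hZ h z
  exact ⟨_, (mem_lvl Z b _).2 ⟨w, rfl⟩, (app_tr Z.arrow h w).symm⟩

variable {A : Type w} [CommRing A] [Linear A C] {J : Ideal A}

theorem lvl_act {X : ARSys.PS C} (Z : Subobject X) (n : ℕ) (a : A) {x : El (X.obj (op n))}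
    (hx : x ∈ elts (lvl Z n)) : act a x ∈ elts (lvl Z n) := by
  obtain ⟨z, rfl⟩ := (mem_lvl Z n x).1 hx
  exact (mem_lvl Z n _).2 ⟨_, ev_act a _ z⟩

/-- The graded subobject attached to a strict subsystem. -/
theorem isGrSub_lvl {X : ARSys.PS C} (hX : ARSys.IsAdic J X) {Z : Subobject X}
    (hZ : ARSys.IsStrict (Subobject.underlying.obj Z : ARSys.PS C)) :
    ARSys.IsGrSub J X (fun q => ARSys.Fsub X q q ⊓ lvl Z q) := by
  refine (mem_isGrSub _).2 ⟨fun q => inf_le_left, fun e q a ha z hz => ?_⟩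
  rw [mem_inf] at hz ⊢
  constructor
  · refine adapted_act_mem (adic_adapted hX) ha ?_
    rcases q with _ | k
    · exact mem_top _
    · rw [mem_Fsub_succ X (by omega : k ≤ e + (k + 1)),
        ← tr_tr X (Nat.le_succ k) (Nat.le_add_left (k + 1) e)]
      exact (mem_Fsub_succ X (Nat.le_succ k) _).1 hz.1
  · obtain ⟨y, hy, hyz⟩ := lvl_lift hZ (Nat.le_add_left q e) hz.2
    have h0 : act a (z - y) = 0 := adapted_kill (adic_adapted hX) (q := q + 1) (by omega) ha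
      ((mem_Fsub_succ X _ _).2 (by rw [map_sub, hyz, sub_self]))
    rw [map_sub, sub_eq_zero] at h0
    rw [h0]
    exact lvl_act Z _ a hy

theorem strict_chain [IsNoetherianRing A] {X : ARSys.PS C} (hX : ARSys.IsAdicNoeth J X)
    (Z : ℕ → Subobject X) (hm : Monotone Z)
    (hZ : ∀ k : ℕ, ARSys.IsStrict (Subobject.underlying.obj (Z k) : ARSys.PS C)) :
    ∃ k₀ : ℕ, ∀ k : ℕ, k₀ ≤ k → Z k = Z k₀ := by
  obtain ⟨k₀, hk₀⟩ := noetherian_const_gr (IsNoetherian.noetherian J) hX.1 (hX.2 0)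
    (fun i q => ARSys.Fsub X q q ⊓ lvl (Z i) q) (fun i => isGrSub_lvl hX.1 (hZ i))
    (fun i j h q => inf_le_inf_left _ ((le_iff_lvl _ _).1 (hm h) q))
  refine ⟨k₀, fun k hk => le_antisymm ((le_iff_lvl _ _).2 fun n => ?_) (hm hk)⟩
  have hF : ∀ q, ∀ x, x ∈ elts (ARSys.Fsub X q q) → x ∈ elts (lvl (Z k) q) → x ∈ elts (lvl (Z k₀) q) := by
    intro q x h1 h2
    have h := (mem_inf _ _ _).2 ⟨h1, h2⟩
    rw [show ARSys.Fsub X q q ⊓ lvl (Z k) q = ARSys.Fsub X q q ⊓ lvl (Z k₀) q from congrFun (hk₀ k hk) q] at h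
    exact ((mem_inf _ _ _).1 h).2
  induction n with
  | zero => exact le_iff'.2 fun x hx => hF 0 x (mem_top x) hx
  | succ n ih =>
    refine le_iff'.2 fun x hx => ?_
    obtain ⟨y, hy, hyx⟩ := lvl_lift (hZ k₀) (Nat.le_succ n) (le_iff.1 ih (lvl_tr (Z k) (Nat.le_succ n) hx))
    have h := hF (n + 1) (x - y) ((mem_Fsub_succ X (Nat.le_succ n) _).2 (by rw [map_sub, hyx, sub_self]))
      (sub_mem hx (le_iff.1 ((le_iff_lvl _ _).1 (hm hk) _) hy))
    rw [← sub_add_cancel x y]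
    exact add_mem h hy

end Groth.L28.AR
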