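import Groth.Agent.L28.AR.Adic
import Groth.Agent.L28.AR.MapFunctor

/-!
Adicity up to translation is detected by a finite family of exact linear functors which detect zero maps.
-/

set_option autoImplicit false

universe w v v' u u'

open CategoryTheory CategoryTheory.Limits Opposite

namespace Groth.L28.AR

open Groth.L28.Elt

variable {C : Type u} [Category.{v} C] [Abelian C] {A : Type w} [CommRing A] [Linear A C] {J : Ideal A}
  {ι : Type*} [Finite ι] {D : ι → Type u'} [∀ k, Category.{v'} (D k)] [∀ k, Abelian (D k)]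
  [∀ k, Linear A (D k)] (Φ : ∀ k, C ⥤ D k) [∀ k, (Φ k).Additive] [∀ k, (Φ k).Linear A]
  [∀ k, PreservesFiniteColimits (Φ k)]
  (G : C → Prop)
  (hdet : ∀ {X Y : C} (f : X ⟶ Y), G X → G Y → (∀ k, (Φ k).map f = 0) → f = 0)
  (hiso : ∀ {X Y : C}, (X ≅ Y) → G X → G Y)
  (hker : ∀ {X Y : C} (f : X ⟶ Y), G X → G Y → G (kernel f))
  (hcoker : ∀ {X Y : C} (f : X ⟶ Y), G X → G Y → G (cokernel f))
  (hquot : ∀ (X : C), G X → ∀ k : ℕ, ∃ (Q : C) (p : X ⟶ Q), ARSys.IsQuot (J ^ k) p ∧ G Q)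

omit [Linear A C] [∀ k, Linear A (D k)] [∀ k, (Φ k).Additive] [∀ k, (Φ k).Linear A]
  [∀ k, PreservesFiniteColimits (Φ k)] in
theorem exists_uniform (Q : ι → ℕ → Prop) (hm : ∀ k a b, a ≤ b → Q k a → Q k b) (h : ∀ k, ∃ r, Q k r) :
    ∃ r, ∀ k, Q k r := by
  classical
  cases nonempty_fintype ι
  choose r hr using h
  exact ⟨Finset.univ.sup r, fun k => hm k _ _ (Finset.le_sup (Finset.mem_univ k)) (hr k)⟩

include hdet hcoker

theorem isMLAR_detect {X : ARSys.PS C} (hG : ∀ n : ℕ, G (X.obj (op n)))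
    (h : ∀ k, ARSys.IsMLAR (X ⋙ Φ k)) : ARSys.IsMLAR X := by
  obtain ⟨r, hr⟩ := exists_uniform (fun k r => ∀ (n a b : ℕ) (hna : n ≤ a) (hnb : n ≤ b), n + r ≤ a →
      ∀ x, ∃ z, ev (ARSys.tr (X ⋙ Φ k) hnb) z = ev (ARSys.tr (X ⋙ Φ k) hna) x)
    (fun k p q hpq hp n a b hna hnb hra => hp n a b hna hnb (le_trans (Nat.add_le_add_left hpq n) hra))
    (fun k => (isMLAR_iff _).1 (h k))
  refine (isMLAR_iff X).2 ⟨r, fun n a b hna hnb hra x => ?_⟩
  have h0 : ARSys.tr X hna ≫ cokernel.π (ARSys.tr X hnb) = 0 := by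
    refine hdet _ (hG a) (hcoker _ (hG b) (hG n)) fun k => Groth.L28.Elt.hom_ext fun y => ?_
    obtain ⟨z, hz⟩ := hr k n a b hna hnb hra y
    have hz' : ev ((Φ k).map (ARSys.tr X hnb)) z = ev ((Φ k).map (ARSys.tr X hna)) y := hz
    rw [Functor.map_comp, ev_comp, ← hz', ← ev_comp, ← Functor.map_comp, cokernel.condition, Functor.map_zero,
      ev_zero, ev_zero]
  exact (cokernel_π_eq_zero_iff _ _).1 (by rw [← ev_comp, h0, ev_zero])

include hiso hker hquot

/-- adicity up to translation is detected by the family -/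
theorem isARAdic_detect (hJ : J.FG ∨ HasCoproducts.{w} C) {X : ARSys.PS C} (hk : ARSys.TermKilled J X)
    (hG : ∀ n : ℕ, G (X.obj (op n))) (h : ∀ k, ARSys.IsARAdic J (X ⋙ Φ k)) : ARSys.IsARAdic J X := by
  obtain ⟨r₀, hr₀⟩ := (isMLAR_iff X).1 (isMLAR_detect Φ G hdet hcoker hG fun k => isMLAR_of_isARAdic (h k))
  refine isARAdic_of_arIso_from hk (isARIso_imι X r₀) ?_
  have hS := imSys_strict X hr₀
  have hkS : ARSys.TermKilled J (imSys X r₀) := killed_mono (imι X r₀) hk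
  have hGS : ∀ n : ℕ, G ((imSys X r₀).obj (op n)) := by
    intro n
    let e := (imπ X r₀).app (op n)
    let m := (imι X r₀).app (op n)
    haveI : Epi e := app_epi (imπ X r₀) n
    haveI : Mono m := app_mono (imι X r₀) n
    have h1 : G (kernel e) := hiso (kernelCompMono e m) (hker _ (hG (n + r₀)) (hG n))
    exact hiso (IsColimit.coconePointUniqueUpToIso (colimit.isColimit _)
      (Abelian.epiIsCokernelOfKernel _ (limit.isLimit _))) (hcoker (kernel.ι e) h1 (hG (n + r₀)))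
  have hΦS : ∀ k, ARSys.IsStrict (imSys X r₀ ⋙ Φ k) := fun k a b hab => by
    haveI : Epi (ARSys.tr (imSys X r₀) hab) := hS a b hab
    show Epi ((Φ k).map (ARSys.tr (imSys X r₀) hab))
    infer_instance
  obtain ⟨r, hr⟩ := exists_uniform (fun k r => ∀ (i : ℕ) (Z : D k) (φ : (imSys X r₀ ⋙ Φ k).obj (op (i + 1)) ⟶ Z),
      ARSys.HomKilledBy (J ^ (i + 1 - r)) φ → ∀ x, ev (ARSys.tr (imSys X r₀ ⋙ Φ k) (Nat.le_succ i)) x = 0 → ev φ x = 0)
    (fun k p q hpq hp i Z φ hφ => hp i Z φ (homKilled_mono_ideal (pow_mono J (by omega)) hφ))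
    (fun k => fker_of_arAdic (hΦS k) (isARAdic_of_arIso_to (termKilled_comp (Φ k) hkS)
      (isARIso_whiskerRight (Φ k) (isARIso_imι X r₀)) (h k)))
  refine arAdic_of_fker hJ hS hkS r fun i _ Z φ hφ x hx => ?_
  obtain ⟨Q, p, hp, hQ⟩ := hquot _ (hGS (i + 1)) (i + 1 - r)
  obtain ⟨ψ, hψ, -⟩ := hp.2 Z φ hφ
  have h0 : kernel.ι (ARSys.tr (imSys X r₀) (Nat.le_succ i)) ≫ p = 0 := by
    refine hdet _ (hker _ (hGS (i + 1)) (hGS i)) hQ fun k => Groth.L28.Elt.hom_ext fun y => ?_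
    rw [Functor.map_comp, ev_comp, ev_zero]
    refine hr k i _ ((Φ k).map p) ?_ _ ?_
    · exact fun a ha => by
        rw [← (Φ k).map_smul, homKilled_of_killed hp.1 p a ha, Functor.map_zero]
    · show ev ((Φ k).map (ARSys.tr (imSys X r₀) (Nat.le_succ i))) _ = 0
      rw [← ev_comp, ← Functor.map_comp, kernel.condition, Functor.map_zero, ev_zero]
  obtain ⟨z, rfl⟩ := (mem_range_kernel_ι _ x).2 hx
  rw [← hψ, ev_comp, ← ev_comp _ p, h0, ev_zero, map_zero]

end Groth.L28.AR
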