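import Groth.Agent.L28.Elt
import Mathlib.CategoryTheory.Functor.OfSequence
import Mathlib.Data.Fintype.Basic
import Mathlib.Order.Monotone.Basic

/-!
A basis theorem in abelian categories: stable families in a graded object generated in degree zero
by a Noetherian object under finitely many commuting operators of degree one.
-/

set_option autoImplicit false

universe v u

open CategoryTheory CategoryTheory.Limits

namespace Groth.L28.Hilbert

open Groth.L28.Elt

variable {C : Type u} [Category.{v} C] [Abelian C] {Xs : ℕ → C}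

/-- Stability of a family of subobjects under one operator. -/
def Stable (t : ∀ q, Xs q ⟶ Xs (q + 1)) (M : ∀ q, Subobject (Xs q)) : Prop :=
  ∀ q, ∀ x ∈ elts (M q), ev (t q) x ∈ elts (M (q + 1))

variable (T : ∀ q, Xs q ⟶ Xs (q + 1))

/-- Iterates of the operator. -/
noncomputable def pw {q m : ℕ} (h : q ≤ m) : Xs q ⟶ Xs m :=
  (Functor.ofSequence T).map (homOfLE h)

theorem pw_self {q : ℕ} (h : q ≤ q) : pw T h = 𝟙 (Xs q) :=
  (Functor.ofSequence T).map_id q

theorem pw_comp {a b c : ℕ} (h : a ≤ b) (h' : b ≤ c) : pw T h ≫ pw T h' = pw T (h.trans h') :=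
  ((Functor.ofSequence T).map_comp (homOfLE h) (homOfLE h')).symm

theorem pw_succ (q : ℕ) : pw T (Nat.le_succ q) = T q := Functor.ofSequence_map_homOfLE_succ T q

theorem pw_pw {a b c : ℕ} (h : a ≤ b) (h' : b ≤ c) (x : El (Xs a)) :
    ev (pw T h') (ev (pw T h) x) = ev (pw T (h.trans h')) x := by rw [← ev_comp, pw_comp]

theorem pw_rfl {q : ℕ} (h : q ≤ q) (x : El (Xs q)) : ev (pw T h) x = x := by rw [pw_self, ev_id]

theorem pw_mem {M : ∀ q, Subobject (Xs q)} (hM : Stable T M) {q m : ℕ} (h : q ≤ m) (x : El (Xs q))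
    (hx : x ∈ elts (M q)) : ev (pw T h) x ∈ elts (M m) := by
  induction m, h using Nat.le_induction with
  | base => rwa [pw_rfl]
  | succ m hm ih =>
    rw [← pw_pw T hm (Nat.le_succ m), pw_succ]
    exact hM m _ ih

theorem pw_commute (t : ∀ q, Xs q ⟶ Xs (q + 1))
    (hc : ∀ q, t q ≫ T (q + 1) = T q ≫ t (q + 1)) {q m : ℕ} (h : q ≤ m) (x : El (Xs q)) :
    ev (t m) (ev (pw T h) x) = ev (pw T (Nat.succ_le_succ h)) (ev (t q) x) := by
  induction m, h using Nat.le_induction with
  | base => rw [pw_rfl, pw_rfl]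
  | succ m hm ih =>
    rw [← pw_pw T hm (Nat.le_succ m), pw_succ,
      ← pw_pw T (Nat.succ_le_succ hm) (Nat.le_succ (m + 1)), pw_succ, ← ih]
    simp only [← ev_comp, Category.assoc, hc m]

/-- The family `B + T F`. -/
noncomputable def shiftPart (F B : ∀ q, Subobject (Xs q)) : ∀ q, Subobject (Xs q)
  | 0 => B 0
  | q + 1 => B (q + 1) ⊔ img (T q) (F q)

/-- The family attached to `M` in the filtration by powers of `T`. -/
noncomputable def leading (F B M : ∀ q, Subobject (Xs q)) (j : ℕ) : ∀ q, Subobject (Xs q) :=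
  fun q => F q ⊓ (Subobject.pullback (pw T (Nat.le_add_right q j))).obj
    (M (q + j) ⊔ img (pw T (Nat.le_add_right q j)) (shiftPart T F B q))

omit T in
theorem stationary : ∀ (k : ℕ) (t : Fin k → ∀ q, Xs q ⟶ Xs (q + 1))
    (_ : ∀ i l q, t i q ≫ t l (q + 1) = t l q ≫ t i (q + 1))
    (F B : ∀ q, Subobject (Xs q)) (_ : B ≤ F) (_ : ∀ i, Stable (t i) F) (_ : ∀ i, Stable (t i) B)
    (_ : ∀ q, F (q + 1) ≤ B (q + 1) ⊔ Finset.univ.sup fun i => img (t i q) (F q))
    (_ : IsNoetherianObject (Xs 0))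
    (M : ℕ → ∀ q, Subobject (Xs q)) (_ : Monotone M) (_ : ∀ n, B ≤ M n) (_ : ∀ n, M n ≤ F)
    (_ : ∀ n i, Stable (t i) (M n)),
    ∃ N, ∀ n, N ≤ n → M n = M N := by
  intro k
  induction k with
  | zero =>
    intro t _ F B hBF _ _ hgen hN M hmono hB hF _
    obtain ⟨N, hN⟩ := chain_stable (fun n => M n 0) (fun a b h => hmono h 0)
    refine ⟨N, fun n hn => funext fun q => ?_⟩
    rcases q with _ | q
    · exact hN n hn
    · have h : F (q + 1) ≤ B (q + 1) := (hgen q).trans (by simp)
      exact le_antisymm ((hF n _).trans (h.trans (hB N _))) ((hF N _).trans (h.trans (hB n _)))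
  | succ k ih =>
    intro t hc F B hBF hF hBs hgen hN M hmono hB hMF hMs
    let T := t (Fin.last k)
    have hB'F : shiftPart T F B ≤ F := by
      intro q
      rcases q with _ | q
      · exact hBF 0
      · refine sup_le (hBF _) (le_iff'.2 fun y hy => ?_)
        obtain ⟨x, hx, rfl⟩ := (mem_img _ _ _).1 hy
        exact hF _ q x hx
    have hBB' : B ≤ shiftPart T F B := by
      intro q
      rcases q with _ | q
      · exact le_rfl
      · exact le_sup_left
    have hB's : ∀ i, Stable (t i) (shiftPart T F B) := by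
      intro i q x hx
      rcases q with _ | q
      · exact le_iff.1 (hBB' 1) (hBs i 0 x hx)
      · obtain ⟨b, hb, y, hy, rfl⟩ := (mem_sup _ _ _).1 hx
        obtain ⟨z, hz, rfl⟩ := (mem_img _ _ _).1 hy
        refine (mem_sup _ _ _).2 ⟨_, hBs i _ b hb, ev (T (q + 1)) (ev (t i q) z),
          (mem_img _ _ _).2 ⟨_, hF i q z hz, rfl⟩, ?_⟩
        rw [map_add, ← ev_comp, ← ev_comp, hc]
    let L : ℕ → ℕ → ∀ q, Subobject (Xs q) := fun n j => leading T F B (M n) j
    have memL : ∀ n j q (x : El (Xs q)), x ∈ elts (L n j q) ↔ x ∈ elts (F q) ∧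
        ∃ m ∈ elts (M n (q + j)), ∃ b ∈ elts (shiftPart T F B q),
          m + ev (pw T (Nat.le_add_right q j)) b = ev (pw T (Nat.le_add_right q j)) x := by
      intro n j q x
      simp only [L, leading, mem_inf, mem_pullback, mem_sup, mem_img]
      constructor
      · rintro ⟨hx, m, hm, _, ⟨b, hb, rfl⟩, he⟩; exact ⟨hx, m, hm, b, hb, he⟩
      · rintro ⟨hx, m, hm, b, hb, he⟩; exact ⟨hx, m, hm, _, ⟨b, hb, rfl⟩, he⟩
    have hLn : ∀ j a b, a ≤ b → L a j ≤ L b j := by
      intro j a b hab q
      refine le_iff'.2 fun x hx => ?_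
      obtain ⟨hx1, m, hm, c, hc', he⟩ := (memL _ _ _ _).1 hx
      exact (memL _ _ _ _).2 ⟨hx1, m, le_iff.1 (hmono hab _) hm, c, hc', he⟩
    have hLj : ∀ n a b, a ≤ b → L n a ≤ L n b := by
      intro n a b hab q
      refine le_iff'.2 fun x hx => ?_
      obtain ⟨hx1, m, hm, c, hc', he⟩ := (memL _ _ _ _).1 hx
      refine (memL _ _ _ _).2 ⟨hx1, _, pw_mem T (hMs n _) (Nat.add_le_add_left hab q) m hm, c, hc', ?_⟩
      rw [← pw_pw T (Nat.le_add_right q a) (Nat.add_le_add_left hab q) c, ← map_add, he, pw_pw]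
    have hLF : ∀ n j, L n j ≤ F := fun n j q => inf_le_left
    have hLB : ∀ n j, shiftPart T F B ≤ L n j := fun n j q => le_iff'.2 fun x hx =>
      (memL _ _ _ _).2 ⟨le_iff.1 (hB'F q) hx, 0, zero_mem _, x, hx, zero_add _⟩
    have hLs : ∀ n j (i : Fin k), Stable (t i.castSucc) (L n j) := by
      intro n j i q x hx
      obtain ⟨hx1, m, hm, c, hc', he⟩ := (memL _ _ _ _).1 hx
      have hidx : q + j + 1 ≤ q + 1 + j := by omega
      refine (memL _ _ _ _).2 ⟨hF _ q x hx1,
        ev (pw T hidx) (ev (t i.castSucc (q + j)) m), ?_, ev (t i.castSucc q) c, hB's i.castSucc q c hc', ?_⟩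
      · exact pw_mem T (hMs n _) hidx _ (hMs n _ _ m hm)
      · have h := congrArg (fun y => ev (pw T hidx) (ev (t i.castSucc (q + j)) y)) he
        simp only [map_add] at h
        rw [pw_commute T (t i.castSucc) (fun q => hc _ _ q) (Nat.le_add_right q j),
          pw_commute T (t i.castSucc) (fun q => hc _ _ q) (Nat.le_add_right q j),
          pw_pw, pw_pw] at h
        exact h
    have hgen' : ∀ q, F (q + 1) ≤ shiftPart T F B (q + 1) ⊔
        Finset.univ.sup fun i : Fin k => img (t i.castSucc q) (F q) := by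
      intro q
      refine (hgen q).trans (sup_le (le_sup_of_le_left le_sup_left) (Finset.sup_le fun i _ => ?_))
      induction i using Fin.lastCases with
      | last => exact le_sup_of_le_left le_sup_right
      | cast i => exact le_sup_of_le_right (Finset.le_sup (f := fun l : Fin k => img (t l.castSucc q) (F q)) (Finset.mem_univ i))
    have IH : ∀ (P : ℕ → ∀ q, Subobject (Xs q)), Monotone P → (∀ n, shiftPart T F B ≤ P n) →
        (∀ n, P n ≤ F) → (∀ n (i : Fin k), Stable (t i.castSucc) (P n)) →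
        ∃ N, ∀ n, N ≤ n → P n = P N :=
      fun P hP hPB hPF hPs => ih (fun i => t i.castSucc) (fun a b q => hc _ _ q) F (shiftPart T F B)
        hB'F (fun i => hF _) (fun i => hB's _) hgen' hN P hP hPB hPF hPs
    obtain ⟨d₀, hd₀⟩ := IH (fun d => L d d) (fun a b h => (hLn a a b h).trans (hLj b a b h))
      (fun d => hLB d d) (fun d => hLF d d) (fun d => hLs d d)
    choose Nj hNj using fun j => IH (fun n => L n j) (fun a b h => hLn j a b h)
      (fun n => hLB n j) (fun n => hLF n j) (fun n => hLs n j)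
    let N := d₀ ⊔ (Finset.range d₀).sup Nj
    have hLN : ∀ n j, N ≤ n → L n j = L N j := by
      intro n j hn
      by_cases hj : j < d₀
      · have : Nj j ≤ N := le_sup_of_le_right (Finset.le_sup (Finset.mem_range.2 hj))
        exact (hNj j n (this.trans hn)).trans (hNj j N this).symm
      · refine le_antisymm ?_ (hLn j N n hn)
        have h1 : L n j ≤ L (n ⊔ j) (n ⊔ j) := (hLn j n _ le_sup_left).trans (hLj _ j _ le_sup_right)
        have h2 : L (n ⊔ j) (n ⊔ j) = L d₀ d₀ := hd₀ _ ((not_lt.1 hj).trans le_sup_right)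
        have h3 : L d₀ d₀ ≤ L N j :=
          (hLn d₀ d₀ N le_sup_left).trans (hLj N d₀ j (not_lt.1 hj))
        exact h1.trans (h2.le.trans h3)
    refine ⟨N, fun n hn => le_antisymm (fun m => le_iff'.2 ?_) (hmono hn)⟩
    have key : ∀ q m (h : q ≤ m), ∀ x ∈ elts (F q), ev (pw T h) x ∈ elts (M n m) →
        ev (pw T h) x ∈ elts (M N m) := by
      intro q
      induction q using Nat.strong_induction_on with
      | _ q ihq =>
        intro m h x hx hxm
        obtain ⟨j, rfl⟩ : ∃ j, m = q + j := ⟨m - q, by omega⟩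
        have hxL : x ∈ elts (L N j q) := by
          rw [← hLN n j hn]
          exact (memL _ _ _ _).2 ⟨hx, _, hxm, 0, zero_mem _, by rw [map_zero, add_zero]⟩
        obtain ⟨-, a, ha, b, hb, he⟩ := (memL _ _ _ _).1 hxL
        rw [← he] at hxm ⊢
        refine add_mem ha ?_
        have hbn : ev (pw T (Nat.le_add_right q j)) b ∈ elts (M n (q + j)) := by
          have := sub_mem hxm (le_iff.1 (hmono hn (q + j)) ha)
          rwa [add_sub_cancel_left] at this
        rcases q with _ | q
        · exact pw_mem T (hMs N _) _ b (le_iff.1 (hB N 0) hb)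
        · obtain ⟨b₀, hb₀, y, hy, rfl⟩ := (mem_sup _ _ _).1 hb
          obtain ⟨z, hz, rfl⟩ := (mem_img _ _ _).1 hy
          rw [map_add] at hbn ⊢
          have hb₀m : ∀ i, ev (pw T (Nat.le_add_right (q + 1) j)) b₀ ∈ elts (M i (q + 1 + j)) := fun i =>
            pw_mem T (hMs i _) _ b₀ (le_iff.1 (hB i _) hb₀)
          refine add_mem (hb₀m N) ?_
          rw [← pw_succ T q, pw_pw] at hbn ⊢
          refine ihq q (Nat.lt_succ_self q) _ _ z hz ?_
          have := sub_mem hbn (hb₀m n)
          rwa [add_sub_cancel_left] at this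
    intro x hx
    have := key m m le_rfl x (le_iff.1 (hMF n m) hx) (by rwa [pw_rfl])
    rwa [pw_rfl] at this

end Groth.L28.Hilbert
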