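import Groth.Agent.L28.AR.Adic
import Groth.Agent.L28.AR.Hilbert

/-!
The filtration of a projective system, adapted systems, and the graded object of an adic system.
-/

set_option autoImplicit false

universe w v u

open CategoryTheory CategoryTheory.Limits Opposite

namespace Groth.L28.AR

open Groth.L28.Elt

variable {C : Type u} [Category.{v} C] [Abelian C] {A : Type w} [CommRing A] [Linear A C] {J : Ideal A}

theorem mem_Fsub_succ (X : ARSys.PS C) {k n : ℕ} (h : k ≤ n) (x : El (X.obj (op n))) :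
    x ∈ elts (ARSys.Fsub X (k + 1) n) ↔ ev (ARSys.tr X h) x = 0 := by
  rw [show ARSys.Fsub X (k + 1) n = kernelSubobject (ARSys.tr X h) from dif_pos h, mem_kernelSubobject]

theorem Fsub_high (X : ARSys.PS C) {k n : ℕ} (h : n < k) : ARSys.Fsub X (k + 1) n = ⊥ :=
  dif_neg (not_le.2 h)

theorem mem_Fsub_zero (X : ARSys.PS C) (n : ℕ) (x : El (X.obj (op n))) :
    x ∈ elts (ARSys.Fsub X 0 n) := mem_top x

theorem Fsub_antitone (X : ARSys.PS C) (n : ℕ) {p q : ℕ} (h : p ≤ q) (x : El (X.obj (op n)))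
    (hx : x ∈ elts (ARSys.Fsub X q n)) : x ∈ elts (ARSys.Fsub X p n) := by
  rcases p with _ | p
  · exact mem_top x
  obtain ⟨k, rfl⟩ : ∃ k, q = k + 1 := ⟨q - 1, by omega⟩
  by_cases hk : k ≤ n
  · rw [mem_Fsub_succ X (by omega : p ≤ n), ← tr_tr X (show p ≤ k by omega) hk,
      (mem_Fsub_succ X hk x).1 hx, map_zero]
  · rw [Fsub_high X (not_le.1 hk), mem_bot] at hx
    rw [hx]; exact zero_mem _

theorem isAdapted_iff (X : ARSys.PS C) : ARSys.IsAdapted J X ↔
    ∀ (n p : ℕ), p ≤ n + 1 → ∀ a ∈ J ^ p, ∀ x ∈ elts (ARSys.Fsub X (n + 1 - p) n), act a x = 0 := by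
  refine forall₂_congr fun n p => forall_congr' fun _ => forall₂_congr fun a _ => ?_
  rw [eq_zero_iff]
  constructor
  · rintro h _ ⟨s, rfl⟩
    rw [← ev_comp]; exact h s
  · intro h s
    rw [ev_comp]; exact h _ ⟨s, rfl⟩

theorem adapted_kill {X : ARSys.PS C} (h : ARSys.IsAdapted J X) {n p q : ℕ} (hpq : n + 1 ≤ p + q)
    {a : A} (ha : a ∈ J ^ p) {x : El (X.obj (op n))} (hx : x ∈ elts (ARSys.Fsub X q n)) :
    act a x = 0 := by
  by_cases hp : p ≤ n + 1
  · exact (isAdapted_iff X).1 h n p hp a ha x (Fsub_antitone X n (by omega) x hx)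
  · refine (isAdapted_iff X).1 h n (n + 1) le_rfl a (pow_mono J (by omega) ha) x ?_
    rw [Nat.sub_self]; exact mem_top x

theorem adapted_act_mem {X : ARSys.PS C} (h : ARSys.IsAdapted J X) {n p q : ℕ} {a : A}
    (ha : a ∈ J ^ p) {x : El (X.obj (op n))} (hx : x ∈ elts (ARSys.Fsub X q n)) :
    act a x ∈ elts (ARSys.Fsub X (p + q) n) := by
  by_cases hk : n + 1 ≤ p + q
  · rw [adapted_kill h hk ha hx]; exact zero_mem _
  rcases Nat.eq_zero_or_pos (p + q) with h0 | h0
  · rw [h0]; exact mem_top _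
  obtain ⟨m, hm⟩ : ∃ m, p + q = m + 1 := ⟨p + q - 1, by omega⟩
  have hmn : m ≤ n := by omega
  rw [hm, mem_Fsub_succ X hmn, ev_act]
  refine adapted_kill h (q := q) (by omega) ha ?_
  rcases q with _ | k
  · exact mem_top _
  · rw [mem_Fsub_succ X (by omega : k ≤ m), tr_tr, ← mem_Fsub_succ X]
    exact hx

theorem isAdapted_iff_image (X : ARSys.PS C) : ARSys.IsAdapted J X ↔ ∀ (n p q : ℕ), ∀ a ∈ J ^ p,
    imageSubobject ((ARSys.Fsub X q n).arrow ≫ (a • 𝟙 (X.obj (op n)))) ≤ ARSys.Fsub X (p + q) n := by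
  constructor
  · intro h n p q a ha
    refine le_iff'.2 fun y hy => ?_
    obtain ⟨s, rfl⟩ := (mem_imageSubobject _ _).1 hy
    rw [ev_comp]
    exact adapted_act_mem h ha ⟨s, rfl⟩
  · intro h
    refine (isAdapted_iff X).2 fun n p hp a ha x hx => ?_
    obtain ⟨s, rfl⟩ := hx
    have := le_iff.1 (h n p (n + 1 - p) a ha) ((mem_imageSubobject _ _).2 ⟨s, rfl⟩)
    rw [Nat.add_sub_cancel' hp, mem_Fsub_succ X le_rfl, tr_rfl, ev_comp] at this
    exact this

theorem adic_adapted {X : ARSys.PS C} (hX : ARSys.IsAdic J X) : ARSys.IsAdapted J X := by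
  refine (isAdapted_iff X).2 fun n p hp a ha x hx => ?_
  obtain hpn | hpn := (Nat.lt_or_eq_of_le hp)
  · obtain ⟨k, hk⟩ : ∃ k, n + 1 - p = k + 1 := ⟨n - p, by omega⟩
    rw [hk, mem_Fsub_succ X (by omega : k ≤ n)] at hx
    refine adic_vanish hX _ (φ := a • 𝟙 _) ((homKilled_iff _).2 fun c hc w => ?_) hx
    show act a (act c w) = 0
    rw [act_act]
    refine killed_act (hX.1 n) (pow_mono J (show n + 1 ≤ p + (k + 1) by omega) ?_) w
    rw [pow_add]
    exact Ideal.mul_mem_mul ha hc
  · subst hpn; exact killed_act (hX.1 n) ha x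

theorem mem_isGrSub {X : ARSys.PS C} (M : (q : ℕ) → Subobject (X.obj (op q))) :
    ARSys.IsGrSub J X M ↔ (∀ q, M q ≤ ARSys.Fsub X q q) ∧
      ∀ (p q : ℕ), ∀ a ∈ J ^ p, ∀ z : El (X.obj (op (p + q))),
        ev (ARSys.tr X (Nat.le_add_left q p)) z ∈ elts (M q) → act a z ∈ elts (M (p + q)) := by
  refine and_congr_right fun _ => forall₂_congr fun p q => forall₂_congr fun a _ => ?_
  rw [le_iff']
  constructor
  · intro h z hz
    refine h _ ((mem_imageSubobject _ _).2 ?_)
    obtain ⟨s, hs⟩ := (mem_pullback _ _ _).2 hz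
    exact ⟨s, by rw [ev_comp, hs]⟩
  · intro h y hy
    obtain ⟨s, rfl⟩ := (mem_imageSubobject _ _).1 hy
    rw [ev_comp]
    exact h _ ((mem_pullback _ _ _).1 ⟨s, rfl⟩)

theorem arAdic_of_grsFiniteType (hJ : J.FG ∨ HasCoproducts.{w} C) (X : ARSys.PS C)
    (hX : ARSys.IsStrict X) (hA : ARSys.IsAdapted J X) (hft : ARSys.GrsFiniteType J X) :
    ARSys.IsARAdic J X := by
  have kX : ARSys.TermKilled J X := fun n => killed_of_act fun a ha x =>
    adapted_kill hA (q := 0) (by omega) ha (mem_top x)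
  choose Q p hp using fun q i : ℕ => exists_quot J hJ (q - i) (X.obj (op q))
  let M : ℕ → (q : ℕ) → Subobject (X.obj (op q)) :=
    fun i q => ARSys.Fsub X q q ⊓ kernelSubobject (p q i)
  have hM : ∀ i, ARSys.IsGrSub J X (M i) := by
    intro i
    refine (mem_isGrSub _).2 ⟨fun q => inf_le_left, fun e q a ha z hz => ?_⟩
    simp only [M, mem_inf, mem_kernelSubobject] at hz ⊢
    constructor
    · refine adapted_act_mem hA ha ?_
      rcases q with _ | k
      · exact mem_top _
      · rw [mem_Fsub_succ X (by omega : k ≤ e + (k + 1)),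
          ← tr_tr X (Nat.le_succ k) (Nat.le_add_left (k + 1) e)]
        exact (mem_Fsub_succ X (Nat.le_succ k) _).1 hz.1
    · haveI : Epi (ARSys.tr X (Nat.le_add_left q e)) := hX _ _ _
      obtain ⟨θ, hθ⟩ := exists_desc (ARSys.tr X (Nat.le_add_left q e))
        ((a • 𝟙 _) ≫ p (e + q) i) fun y hy => by
          rw [ev_comp]
          have : act a y = 0 := adapted_kill hA (q := q + 1) (by omega) ha ((mem_Fsub_succ X _ y).2 hy)
          rw [show ev (a • 𝟙 (X.obj (op (e + q)))) y = 0 from this, map_zero]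
      have hk : ARSys.HomKilledBy (J ^ (q - i)) θ := (homKilled_iff θ).2 fun c hc y => by
        obtain ⟨y', rfl⟩ := surj (ARSys.tr X (Nat.le_add_left q e)) y
        rw [← ev_act, ← ev_comp, hθ, ev_comp]
        show ev (p (e + q) i) (act a (act c y')) = 0
        rw [act_act, ev_act]
        refine killed_act (hp _ _).1 (pow_mono J (show e + q - i ≤ e + (q - i) by omega) ?_) _
        rw [pow_add]; exact Ideal.mul_mem_mul ha hc
      have := IsQuot.vanish (hp q i) hk hz.2
      rwa [← ev_comp, hθ, ev_comp] at this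
  have hfull : ∀ i q, q ≤ i → M i q = ARSys.Fsub X q q := fun i q h =>
    le_antisymm inf_le_left (le_inf le_rfl (le_iff'.2 fun x _ => (mem_kernelSubobject _ _).2 (by
      have hz : ARSys.KilledBy (⊤ : Ideal A) (Q q i) := fun a _ =>
        (hp q i).1 a (by rw [Nat.sub_eq_zero_of_le h, pow_zero, Ideal.one_eq_top]; trivial)
      exact killed_top hz _)))
  have hmono : Monotone M := fun i j h q => le_iff'.2 fun x hx => by
    simp only [M, mem_inf, mem_kernelSubobject] at hx ⊢
    exact ⟨hx.1, IsQuot.vanish (hp q i) (homKilled_mono_ideal (pow_mono J (by omega))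
      (homKilled_of_killed (hp q j).1 _)) hx.2⟩
  obtain ⟨i, hi⟩ := hft M hM hmono fun q =>
    ⟨by rintro _ ⟨i, rfl⟩; exact inf_le_left, fun S hS => (hfull q q le_rfl).ge.trans (hS ⟨q, rfl⟩)⟩
  refine arAdic_of_fker hJ hX kX i fun n _ Z φ hφ x hx => ?_
  have hxF : x ∈ elts (ARSys.Fsub X (n + 1) (n + 1)) := (mem_Fsub_succ X (Nat.le_succ n) x).2 hx
  rw [← hi (n + 1)] at hxF
  exact IsQuot.vanish (hp (n + 1) i) hφ ((mem_kernelSubobject _ _).1 ((mem_inf _ _ _).1 hxF).2)

theorem noetherian_const_gr {X : ARSys.PS C} (hJ : J.FG) (hX : ARSys.IsAdic J X)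
    (h0 : IsNoetherianObject (X.obj (op 0))) (M : ℕ → (q : ℕ) → Subobject (X.obj (op q)))
    (hM : ∀ i, ARSys.IsGrSub J X (M i)) (hmono : Monotone M) :
    ∃ i₀, ∀ i, i₀ ≤ i → M i = M i₀ := by
  obtain ⟨k, s, hs⟩ := Submodule.fg_iff_exists_fin_generating_family.1 hJ
  have hA := adic_adapted hX
  have hsJ : ∀ l, s l ∈ J := fun l => hs ▸ Submodule.subset_span ⟨l, rfl⟩
  have hmu : ∀ (a : A), a ∈ J → ∀ q, ∃ t : X.obj (op q) ⟶ X.obj (op (q + 1)),
      ARSys.tr X (Nat.le_succ q) ≫ t = a • 𝟙 (X.obj (op (q + 1))) := fun a ha q => by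
    haveI : Epi (ARSys.tr X (Nat.le_succ q)) := adic_strict hX _ _ _
    exact exists_desc _ _ fun x hx => adapted_kill hA (p := 1) (q := q + 1) (by omega)
      (by rwa [pow_one]) ((mem_Fsub_succ X _ x).2 hx)
  choose μ hμ using hmu
  have hμ' : ∀ (a : A) (ha : a ∈ J) (q : ℕ) (z : El (X.obj (op (q + 1)))),
      ev (μ a ha q) (ev (ARSys.tr X (Nat.le_succ q)) z) = act a z := fun a ha q z => by
    rw [← ev_comp, hμ]
  let t : Fin k → ∀ q, X.obj (op q) ⟶ X.obj (op (q + 1)) := fun l q => μ (s l) (hsJ l) q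
  have hstab : ∀ (N : (q : ℕ) → Subobject (X.obj (op q))), ARSys.IsGrSub J X N → ∀ l,
      Hilbert.Stable (Xs := fun q => X.obj (op q)) (t l) N := by
    intro N hN l q x hx
    obtain ⟨z, rfl⟩ := strict_surj (adic_strict hX) (Nat.le_succ q) x
    show ev (μ (s l) (hsJ l) q) _ ∈ _
    rw [hμ']
    have key : ∀ (m : ℕ) (e : 1 + q = m) (h : q ≤ m) (z : El (X.obj (op m))),
        ev (ARSys.tr X h) z ∈ elts (N q) → act (s l) z ∈ elts (N m) := by
      rintro m rfl h z hz
      exact ((mem_isGrSub N).1 hN).2 1 q (s l) (by rw [pow_one]; exact hsJ l) z hz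
    exact key (q + 1) (Nat.add_comm 1 q) _ z hx
  have hF : ARSys.IsGrSub J X (fun q => ARSys.Fsub X q q) :=
    (mem_isGrSub _).2 ⟨fun q => le_rfl, fun p q a ha z hz => adapted_act_mem hA ha (by
      rcases q with _ | j
      · exact mem_top _
      · rw [mem_Fsub_succ X (by omega : j ≤ p + (j + 1)),
          ← tr_tr X (Nat.le_succ j) (Nat.le_add_left (j + 1) p)]
        exact (mem_Fsub_succ X (Nat.le_succ j) _).1 hz)⟩
  have hcomm : ∀ (i l : Fin k) q, t i q ≫ t l (q + 1) = t l q ≫ t i (q + 1) := by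
    intro i l q
    refine Groth.L28.Elt.hom_ext fun x => ?_
    obtain ⟨z, rfl⟩ := strict_surj (adic_strict hX) (show q ≤ q + 1 + 1 by omega) x
    have h1 : ∀ l, ev (t l q) (ev (ARSys.tr X (show q ≤ q + 1 + 1 by omega)) z) =
        ev (ARSys.tr X (Nat.le_succ (q + 1))) (act (s l) z) := fun l => by
      rw [← tr_tr X (Nat.le_succ q) (Nat.le_succ (q + 1)), ev_act]
      exact hμ' _ _ _ _
    rw [ev_comp, ev_comp, h1, h1]
    show ev (μ _ _ (q + 1)) _ = ev (μ _ _ (q + 1)) _
    rw [hμ', hμ', act_act, act_act, mul_comm]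
  have hgen : ∀ q, ARSys.Fsub X (q + 1) (q + 1) ≤ (⊥ : Subobject (X.obj (op (q + 1)))) ⊔
      Finset.univ.sup fun l => img (t l q) (ARSys.Fsub X q q) := by
    intro q
    rw [bot_sup_eq]
    generalize hS : (Finset.univ.sup fun l => img (t l q) (ARSys.Fsub X q q)) = S
    refine le_iff'.2 fun x hx => ?_
    have hk : ARSys.HomKilledBy (J ^ (q + 1)) (cokernel.π S.arrow) := by
      refine (homKilled_iff _).2 fun a ha w => (cokernel_π_eq_zero_iff _ _).2 ?_
      show act a w ∈ elts S
      rw [pow_succ'] at ha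
      refine Submodule.mul_induction_on (C := fun a => act a w ∈ elts S) ha (fun c hc b hb => ?_) (fun c d h1 h2 => ?_)
      · show act (c * b) w ∈ elts S
        rw [← act_act]
        rw [← hs] at hc
        induction hc using Submodule.span_induction generalizing b w with
        | mem c hc =>
          obtain ⟨l, rfl⟩ := hc
          refine le_iff.1 (hS ▸ Finset.le_sup (f := fun l => img (t l q) (ARSys.Fsub X q q)) (Finset.mem_univ l)) ?_
          have hbw : ev (ARSys.tr X (Nat.le_succ q)) (act b w) ∈ elts (ARSys.Fsub X q q) := by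
            rw [ev_act]
            exact adapted_act_mem hA (q := 0) hb (mem_top _)
          exact (mem_img _ _ _).2 ⟨_, hbw, hμ' _ _ _ _⟩
        | zero => simp [act]
        | add c d _ _ h1 h2 =>
          have : act (c + d) (act b w) = act c (act b w) + act d (act b w) := by
            simp only [act, add_smul, ev_add]
          rw [this]; exact add_mem (h1 w b hb) (h2 w b hb)
        | smul r c _ h1 =>
          rw [smul_eq_mul, act_act, show r * c * b = c * (b * r) by ring, ← act_act]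
          exact h1 w (b * r) (Ideal.mul_mem_right r _ hb)
      · show act (c + d) w ∈ elts S
        have : act (c + d) w = act c w + act d w := by simp only [act, add_smul, ev_add]
        rw [this]; exact add_mem h1 h2
    exact (cokernel_π_eq_zero_iff _ _).1
      (adic_vanish hX (Nat.le_succ q) hk ((mem_Fsub_succ X (Nat.le_succ q) x).1 hx))
  obtain ⟨N, hN⟩ := Hilbert.stationary (Xs := fun q => X.obj (op q)) k t hcomm
    (fun q => ARSys.Fsub X q q) (fun _ => ⊥) (fun q => bot_le) (hstab _ hF)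
    (fun l q x hx => by rw [mem_bot] at hx; rw [hx, map_zero]; exact zero_mem _)
    hgen h0 M hmono (fun n q => bot_le) (fun n q => (hM n).1 q) (fun n => hstab _ (hM n))
  exact ⟨N, hN⟩

theorem finiteness_of_adic [IsNoetherianRing A] {X : ARSys.PS C} (hX : ARSys.IsAdic J X) (P : C → Prop)
    (hmono : ∀ {Y Z : C} (f : Y ⟶ Z), Mono f → P Z → P Y)
    (hepi : ∀ {Y Z : C} (f : Y ⟶ Z), Epi f → P Y → P Z)
    (hext : ∀ {X₁ X₂ X₃ : C} (f : X₁ ⟶ X₂) (g : X₂ ⟶ X₃),
      (∀ y, ev g y = 0 → ∃ x, ev f x = y) → P X₁ → P X₃ → P X₂)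
    (h0 : P (X.obj (op 0))) :
    ∀ n, P (X.obj (op n)) := by
  intro n
  induction n with
  | zero => exact h0
  | succ n ih =>
    have hkP : P (kernel (ARSys.tr X (Nat.le_succ n))) := by
      -- the kernel is the image of finitely many copies of `X 0`
      obtain ⟨k, s, hs⟩ := Submodule.fg_iff_exists_fin_generating_family.1
        (IsNoetherian.noetherian (J ^ (n + 1)))
      have hd : ∀ l, ∃ t : X.obj (op 0) ⟶ X.obj (op (n + 1)),
          ARSys.tr X (Nat.zero_le (n + 1)) ≫ t = s l • 𝟙 (X.obj (op (n + 1))) := fun l => by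
        haveI : Epi (ARSys.tr X (Nat.zero_le (n + 1))) := adic_strict hX _ _ _
        refine exists_desc _ _ fun x hx => ?_
        exact adapted_kill (adic_adapted hX) (p := n + 1) (q := 1) (by omega)
          (hs ▸ Submodule.subset_span ⟨l, rfl⟩) ((mem_Fsub_succ X _ x).2 hx)
      choose t ht using hd
      have hN : ∀ m : ℕ, ∀ f : Fin m → Fin k, ∃ (Q : C) (d : Q ⟶ X.obj (op (n + 1))),
          P Q ∧ ∀ l y, ∃ x, ev d x = ev (t (f l)) y := by
        intro m
        induction m with
        | zero => exact fun f => ⟨X.obj (op 0), 0, h0, fun l => l.elim0⟩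
        | succ m ihm =>
          intro f
          obtain ⟨Q, d, hP, hd⟩ := ihm (fun l => f l.castSucc)
          refine ⟨Q ⊞ X.obj (op 0), biprod.desc d (t (f (Fin.last m))),
            hext (biprod.inl : Q ⟶ Q ⊞ X.obj (op 0)) biprod.snd (fun y hy =>
              ⟨ev biprod.fst y, biprod_ext (by rw [← ev_comp, biprod.inl_fst, ev_id])
                (by rw [← ev_comp, biprod.inl_snd, ev_zero, hy])⟩) hP h0, fun l y => ?_⟩
          induction l using Fin.lastCases with
          | last => exact ⟨ev biprod.inr y, by rw [← ev_comp, biprod.inr_desc]⟩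
          | cast l =>
            obtain ⟨x, hx⟩ := hd l y
            exact ⟨ev biprod.inl x, by rw [← ev_comp, biprod.inl_desc, hx]⟩
      obtain ⟨Q, d, hP, hd⟩ := hN k id
      have hk : ARSys.HomKilledBy (J ^ (n + 1)) (cokernel.π d) := by
        refine (homKilled_iff _).2 fun a ha w => ?_
        rw [← hs] at ha
        induction ha using Submodule.span_induction with
        | mem a ha =>
          obtain ⟨l, rfl⟩ := ha
          rw [cokernel_π_eq_zero_iff]
          obtain ⟨x, hx⟩ := hd l (ev (ARSys.tr X (Nat.zero_le (n + 1))) w)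
          exact ⟨x, by rw [hx, ← ev_comp]; exact ev_congr (ht l) w⟩
        | zero => simp [act]
        | add a b _ _ h1 h2 =>
          rw [show act (a + b) w = act a w + act b w by simp only [act, add_smul, ev_add], map_add, h1, h2, add_zero]
        | smul r a _ h1 =>
          rw [smul_eq_mul, ← act_act, ev_act, h1, map_zero]
      obtain ⟨g, hg⟩ := exists_lift (kernel.ι (ARSys.tr X (Nat.le_succ n)))
        (kernel.ι (d ≫ cokernel.π (kernel.ι (ARSys.tr X (Nat.le_succ n)))) ≫ d) fun z =>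
          (cokernel_π_eq_zero_iff _ _).1 (by
            rw [← ev_comp, Category.assoc, kernel.condition, ev_zero])
      haveI : Epi g := epi_iff.2 fun y => by
        have hy : ev (ARSys.tr X (Nat.le_succ n)) (ev (kernel.ι (ARSys.tr X (Nat.le_succ n))) y) = 0 := by
          rw [← ev_comp, kernel.condition, ev_zero]
        obtain ⟨x, hx⟩ := (cokernel_π_eq_zero_iff _ _).1 (adic_vanish hX (Nat.le_succ n) hk hy)
        obtain ⟨x', hx'⟩ := (mem_range_kernel_ι (d ≫ cokernel.π (kernel.ι (ARSys.tr X (Nat.le_succ n)))) x).2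
          (by rw [ev_comp, hx, ← ev_comp, cokernel.condition, ev_zero])
        exact ⟨x', inj (kernel.ι (ARSys.tr X (Nat.le_succ n))) (by rw [← ev_comp, hg, ev_comp, hx', hx])⟩
      exact hepi g ‹_› (hmono (kernel.ι _) inferInstance hP)
    exact hext (kernel.ι (ARSys.tr X (Nat.le_succ n))) (ARSys.tr X (Nat.le_succ n))
      (fun y hy => (mem_range_kernel_ι _ y).2 hy) hkP ih

theorem noetherian_of_adic [IsNoetherianRing A] {X : ARSys.PS C} (hX : ARSys.IsAdic J X)
    (h0 : IsNoetherianObject (X.obj (op 0))) (n : ℕ) : IsNoetherianObject (X.obj (op n)) :=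
  finiteness_of_adic hX (fun Y => IsNoetherianObject Y)
    (fun f _ h => haveI := h; isNoetherianObject_of_mono f)
    (fun f _ h => haveI := h; noetherian_of_epi f)
    (fun f g hfg h1 h3 => haveI := h1; haveI := h3; noetherian_of_exact f g hfg) h0 n

theorem artinian_of_adic [IsNoetherianRing A] {X : ARSys.PS C} (hX : ARSys.IsAdic J X)
    (h0 : IsArtinianObject (X.obj (op 0))) (n : ℕ) : IsArtinianObject (X.obj (op n)) :=
  finiteness_of_adic hX (fun Y => IsArtinianObject Y)
    (fun f _ h => haveI := h; isArtinianObject_of_mono f)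
    (fun f _ h => haveI := h; artinian_of_epi f)
    (fun f g hfg h1 h3 => haveI := h1; haveI := h3; artinian_of_exact f g hfg) h0 n

end Groth.L28.AR
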