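import Groth.Agent.L28.AR.Basic

/-!
Null systems, isomorphisms up to translation, the uniform Mittag-Leffler condition, adic systems.
-/

set_option autoImplicit false

universe w v u

open CategoryTheory CategoryTheory.Limits Opposite

namespace Groth.L28.AR

open Groth.L28.Elt

variable {C : Type u} [Category.{v} C] [Abelian C]

/-! ### null systems -/

theorem isARNull_iff (X : ARSys.PS C) : ARSys.IsARNull X ↔
    ∃ r, ∀ n, ∀ x : El (X.obj (op (n + r))), ev (ARSys.tr X (Nat.le_add_right n r)) x = 0 := by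
  refine exists_congr fun r => forall_congr' fun n => ?_
  exact eq_zero_iff

/-- A system is null as soon as a fixed translation kills it. -/
theorem null_mono {X : ARSys.PS C} {r s : ℕ} (hrs : r ≤ s)
    (h : ∀ n, ∀ x : El (X.obj (op (n + r))), ev (ARSys.tr X (Nat.le_add_right n r)) x = 0)
    {n N : ℕ} (hN : n + s ≤ N) (x : El (X.obj (op N))) :
    ev (ARSys.tr X (show n ≤ N by omega)) x = 0 := by
  rw [← tr_tr X (Nat.le_add_right n r) (show n + r ≤ N by omega), h]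

theorem isARNull_iff_of_shortExact (S : ShortComplex (ARSys.PS C)) (hS : S.ShortExact) :
    ARSys.IsARNull S.X₂ ↔ (ARSys.IsARNull S.X₁ ∧ ARSys.IsARNull S.X₃) := by
  haveI := hS.mono_f
  haveI := hS.epi_g
  simp only [isARNull_iff]
  constructor
  · rintro ⟨r, hr⟩
    refine ⟨⟨r, fun n x => app_inj S.f n ?_⟩, ⟨r, fun n z => ?_⟩⟩
    · rw [app_tr, map_zero, hr]
    · obtain ⟨y, rfl⟩ := app_surj S.g (n + r) z
      rw [← app_tr, hr, map_zero]
  · rintro ⟨⟨r₁, h₁⟩, ⟨r₃, h₃⟩⟩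
    refine ⟨r₁ + r₃, fun n y => ?_⟩
    have hm : n + r₁ ≤ n + (r₁ + r₃) := by omega
    obtain ⟨x, hx⟩ := exact_app hS.exact (n + r₁) (ev (ARSys.tr S.X₂ hm) y)
      (by rw [app_tr]; exact null_mono le_rfl h₃ (by omega) _)
    rw [← tr_tr S.X₂ (Nat.le_add_right n r₁) hm, ← hx, ← app_tr, h₁, map_zero]

/-! ### isomorphisms up to translation -/

/-- `ψ` inverts `u` up to the translation `r`. -/
def IsInv {X Y : ARSys.PS C} (u : X ⟶ Y) (r : ℕ) (ψ : ∀ n, Y.obj (op (n + r)) ⟶ X.obj (op n)) :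
    Prop :=
  (∀ n x, ev (ψ n) (ev (u.app (op (n + r))) x) = ev (ARSys.tr X (Nat.le_add_right n r)) x) ∧
  (∀ n y, ev (u.app (op n)) (ev (ψ n) y) = ev (ARSys.tr Y (Nat.le_add_right n r)) y) ∧
  ∀ (a b : ℕ) (h : a ≤ b) (y : El (Y.obj (op (b + r)))),
    ev (ARSys.tr X h) (ev (ψ b) y) = ev (ψ a) (ev (ARSys.tr Y (Nat.add_le_add_right h r)) y)

theorem isARIso_iff_elem {X Y : ARSys.PS C} (u : X ⟶ Y) : ARSys.IsARIso u ↔
    ∃ r, (∀ n, ∀ x : El (X.obj (op (n + r))), ev (u.app (op (n + r))) x = 0 →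
        ev (ARSys.tr X (Nat.le_add_right n r)) x = 0) ∧
      ∀ n, ∀ y : El (Y.obj (op (n + r))), ∃ x,
        ev (u.app (op n)) x = ev (ARSys.tr Y (Nat.le_add_right n r)) y := by
  rw [ARSys.IsARIso, isARNull_iff, isARNull_iff]
  constructor
  · rintro ⟨⟨r₁, h₁⟩, r₂, h₂⟩
    refine ⟨max r₁ r₂, fun n x hx => ?_, fun n y => ?_⟩
    · obtain ⟨k, rfl⟩ := (kernel_app u _ x).1 hx
      rw [← app_tr, null_mono (le_max_left _ _) h₁ le_rfl, map_zero]
    · rw [← cokernel_app, app_tr]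
      exact null_mono (le_max_right _ _) h₂ le_rfl _
  · rintro ⟨r, hk, hc⟩
    refine ⟨⟨r, fun n k => app_inj (kernel.ι u) n ?_⟩, r, fun n z => ?_⟩
    · rw [app_tr, map_zero]
      exact hk n _ ((kernel_app u _ _).2 ⟨k, rfl⟩)
    · obtain ⟨y, rfl⟩ := app_surj (cokernel.π u) (n + r) z
      rw [← app_tr, cokernel_app]
      exact hc n y

theorem exists_isInv {X Y : ARSys.PS C} {u : X ⟶ Y} (hu : ARSys.IsARIso u) :
    ∃ r ψ, IsInv u r ψ := by
  obtain ⟨r, hk, hc⟩ := (isARIso_iff_elem u).1 hu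
  -- invert the image, then descend
  have step : ∀ n, ∃ θ : Y.obj (op (n + r + r)) ⟶ X.obj (op n),
      ∀ y x, ev (u.app (op (n + r))) x = ev (ARSys.tr Y (Nat.le_add_right (n + r) r)) y →
        ev θ y = ev (ARSys.tr X (Nat.le_add_right n r)) x := by
    intro n
    let j := Abelian.image.ι (u.app (op (n + r)))
    let e := Abelian.factorThruImage (u.app (op (n + r)))
    have he : e ≫ j = u.app (op (n + r)) := Abelian.image.fac _
    obtain ⟨l, hl⟩ := exists_lift j (ARSys.tr Y (Nat.le_add_right (n + r) r)) fun y => by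
      obtain ⟨x, hx⟩ := hc (n + r) y
      exact ⟨ev e x, by rw [← ev_comp, he, hx]⟩
    obtain ⟨d, hd⟩ := exists_desc e (ARSys.tr X (Nat.le_add_right n r)) fun x hx =>
      hk n x (by rw [← he, ev_comp, hx, map_zero])
    refine ⟨l ≫ d, fun y x hxy => ?_⟩
    have : ev l y = ev e x := inj j (by rw [← ev_comp, ← ev_comp, hl, he, hxy])
    rw [ev_comp, this, ← ev_comp, hd]
  choose θ hθ using step
  have hle : ∀ n, n + r + r ≤ n + (r + r) := fun n => by omega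
  refine ⟨r + r, fun n => ARSys.tr Y (hle n) ≫ θ n, fun n x => ?_, fun n y => ?_, fun a b h y => ?_⟩
  · rw [ev_comp, hθ n _ (ev (ARSys.tr X (show n + r ≤ n + (r + r) by omega)) x) (by
      rw [app_tr, tr_tr]), tr_tr]
  · obtain ⟨x, hx⟩ := hc (n + r) (ev (ARSys.tr Y (hle n)) y)
    rw [ev_comp, hθ n _ x hx, app_tr, hx, tr_tr, tr_tr]
  · obtain ⟨x, hx⟩ := hc (b + r) (ev (ARSys.tr Y (hle b)) y)
    rw [ev_comp, ev_comp, hθ b _ x hx,
      hθ a _ (ev (ARSys.tr X (Nat.add_le_add_right h r)) x) (by rw [app_tr, hx, tr_tr, tr_tr, tr_tr, tr_tr]),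
      tr_tr, tr_tr]

theorem isARIso_of_isInv {X Y : ARSys.PS C} {u : X ⟶ Y} {r : ℕ}
    {ψ : ∀ n, Y.obj (op (n + r)) ⟶ X.obj (op n)} (h : IsInv u r ψ) : ARSys.IsARIso u :=
  (isARIso_iff_elem u).2 ⟨r, fun n x hx => by rw [← h.1, hx, map_zero],
    fun n y => ⟨_, h.2.1 n y⟩⟩

theorem IsInv.enlarge {X Y : ARSys.PS C} {u : X ⟶ Y} {r s : ℕ}
    {ψ : ∀ n, Y.obj (op (n + r)) ⟶ X.obj (op n)} (h : IsInv u r ψ) (hs : r ≤ s) :
    IsInv u s (fun n => ARSys.tr Y (Nat.add_le_add_left hs n) ≫ ψ n) := by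
  refine ⟨fun n x => ?_, fun n y => ?_, fun a b hab y => ?_⟩
  · rw [ev_comp, ← app_tr, h.1, tr_tr]
  · rw [ev_comp, h.2.1, tr_tr]
  · rw [ev_comp, ev_comp, h.2.2 a b hab, tr_tr, tr_tr]

theorem isARIso_id (X : ARSys.PS C) : ARSys.IsARIso (𝟙 X) :=
  isARIso_of_isInv (r := 0) (ψ := fun n => 𝟙 (X.obj (op n)))
    ⟨fun n x => by simp [tr_self], fun n y => by simp [tr_self],
      fun a b h y => by simp⟩

theorem isARIso_comp {X Y Z : ARSys.PS C} {u : X ⟶ Y} {v : Y ⟶ Z} (hu : ARSys.IsARIso u)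
    (hv : ARSys.IsARIso v) : ARSys.IsARIso (u ≫ v) := by
  obtain ⟨r, ψ, hψ⟩ := exists_isInv hu
  obtain ⟨s, φ, hφ⟩ := exists_isInv hv
  refine (isARIso_iff_elem _).2 ⟨r + s, fun n x hx => ?_, fun n z => ?_⟩
  · rw [NatTrans.comp_app, ev_comp] at hx
    have h1 : ev (v.app (op (n + r + s))) (ev (u.app (op (n + r + s)))
        (ev (ARSys.tr X (show n + r + s ≤ n + (r + s) by omega)) x)) = 0 := by
      rw [app_tr, app_tr, hx, map_zero]
    have h2 := hφ.1 (n + r) (ev (u.app (op (n + r + s)))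
        (ev (ARSys.tr X (show n + r + s ≤ n + (r + s) by omega)) x))
    rw [h1, map_zero, ← app_tr, tr_tr] at h2
    have h3 := hψ.1 n (ev (ARSys.tr X (show n + r ≤ n + (r + s) by omega)) x)
    rw [← h2, map_zero, tr_tr] at h3
    exact h3.symm
  · refine ⟨ev (ψ n) (ev (φ (n + r)) (ev (ARSys.tr Z (show n + r + s ≤ n + (r + s) by omega)) z)), ?_⟩
    rw [NatTrans.comp_app, ev_comp, hψ.2.1, app_tr, hφ.2.1, tr_tr, tr_tr]

theorem isARIso_of_comp_left {X Y Z : ARSys.PS C} {u : X ⟶ Y} {v : Y ⟶ Z} (hu : ARSys.IsARIso u)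
    (huv : ARSys.IsARIso (u ≫ v)) : ARSys.IsARIso v := by
  obtain ⟨r, ψ, hψ⟩ := exists_isInv hu
  obtain ⟨s, φ, hφ⟩ := exists_isInv huv
  refine (isARIso_iff_elem _).2 ⟨r + s, fun n y hy => ?_, fun n z => ?_⟩
  · have h : ev ((u ≫ v).app (op (n + s))) (ev (ψ (n + s)) (ev (ARSys.tr Y (show n + s + r ≤ n + (r + s) by omega)) y)) = 0 := by
      rw [NatTrans.comp_app, ev_comp, hψ.2.1, tr_tr, app_tr, hy, map_zero]
    have h2 := hφ.1 n (ev (ψ (n + s)) (ev (ARSys.tr Y (show n + s + r ≤ n + (r + s) by omega)) y))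
    rw [h, map_zero] at h2
    have h3 := congrArg (ev (u.app (op n))) h2
    rw [map_zero, app_tr, hψ.2.1, tr_tr, tr_tr] at h3
    exact h3.symm
  · refine ⟨ev (u.app (op n)) (ev (φ n) (ev (ARSys.tr Z (show n + s ≤ n + (r + s) by omega)) z)), ?_⟩
    rw [← ev_comp, ← NatTrans.comp_app, hφ.2.1, tr_tr]

/-! ### the uniform Mittag-Leffler condition -/

/-- Elements of level `n` which lift to level `n + s`. -/
def Lifts (X : ARSys.PS C) (n s : ℕ) (y : El (X.obj (op n))) : Prop :=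
  ∃ x, ev (ARSys.tr X (Nat.le_add_right n s)) x = y

theorem mem_image_shiftMap (X : ARSys.PS C) (n s : ℕ) (y : El (X.obj (op n))) :
    y ∈ elts (imageSubobject (ARSys.shiftMap X s n)) ↔ Lifts X n s y :=
  mem_imageSubobject _ _

theorem image_antitone (X : ARSys.PS C) (n : ℕ) {r s : ℕ} (h : r ≤ s) :
    imageSubobject (ARSys.shiftMap X s n) ≤ imageSubobject (ARSys.shiftMap X r n) := by
  refine le_iff'.2 fun y hy => ?_
  obtain ⟨x, rfl⟩ := (mem_image_shiftMap X n s y).1 hy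
  exact (mem_image_shiftMap X n r _).2 ⟨_, tr_tr X _ (Nat.add_le_add_left h n) x⟩

theorem isMLAR_iff (X : ARSys.PS C) : ARSys.IsMLAR X ↔
    ∃ r, ∀ (n a b : ℕ) (hna : n ≤ a) (hnb : n ≤ b), n + r ≤ a →
      ∀ x, ∃ z, ev (ARSys.tr X hnb) z = ev (ARSys.tr X hna) x := by
  constructor
  · rintro ⟨r, hr⟩
    refine ⟨r, fun n a b hna hnb hra x => ?_⟩
    have hy : Lifts X n r (ev (ARSys.tr X hna) x) :=
      ⟨ev (ARSys.tr X hra) x, tr_tr X _ hra x⟩
    rw [← mem_image_shiftMap, ← hr (max r (b - n)) (le_max_left _ _) n, mem_image_shiftMap] at hy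
    obtain ⟨z, hz⟩ := hy
    exact ⟨ev (ARSys.tr X (show b ≤ n + max r (b - n) by omega)) z, by rw [tr_tr, hz]⟩
  · rintro ⟨r, hr⟩
    refine ⟨r, fun s hs n => le_antisymm (image_antitone X n hs) (le_iff'.2 fun y hy => ?_)⟩
    obtain ⟨x, rfl⟩ := (mem_image_shiftMap X n r y).1 hy
    exact (mem_image_shiftMap X n s _).2 (hr n (n + r) (n + s) _ _ le_rfl x)

theorem strict_surj {X : ARSys.PS C} (hX : ARSys.IsStrict X) {a b : ℕ} (h : a ≤ b) :
    Function.Surjective (ev (ARSys.tr X h)) := epi_iff.1 (hX a b h)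

theorem strict_of_surj {X : ARSys.PS C}
    (h : ∀ (a b : ℕ) (hab : a ≤ b), Function.Surjective (ev (ARSys.tr X hab))) : ARSys.IsStrict X :=
  fun a b hab => epi_iff.2 (h a b hab)

theorem isMLAR_of_strict {X : ARSys.PS C} (hX : ARSys.IsStrict X) : ARSys.IsMLAR X :=
  (isMLAR_iff X).2 ⟨0, fun _ _ _ _ hnb _ _ => strict_surj hX hnb _⟩

theorem isMLAR_of_null {X : ARSys.PS C} (hX : ARSys.IsARNull X) : ARSys.IsMLAR X := by
  obtain ⟨r, hr⟩ := (isARNull_iff X).1 hX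
  exact (isMLAR_iff X).2 ⟨r, fun n a b hna hnb hra x =>
    ⟨0, by rw [map_zero]; exact (null_mono le_rfl hr hra x).symm⟩⟩

theorem isMLAR_X₃ {S : ShortComplex (ARSys.PS C)} (hS : S.ShortExact) (h : ARSys.IsMLAR S.X₂) :
    ARSys.IsMLAR S.X₃ := by
  haveI := hS.epi_g
  obtain ⟨r, hr⟩ := (isMLAR_iff _).1 h
  refine (isMLAR_iff _).2 ⟨r, fun n a b hna hnb hra x => ?_⟩
  obtain ⟨y, rfl⟩ := app_surj S.g a x
  obtain ⟨z, hz⟩ := hr n a b hna hnb hra y
  exact ⟨ev (S.g.app (op b)) z, by rw [← app_tr, hz, app_tr]⟩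

theorem isMLAR_X₂ {S : ShortComplex (ARSys.PS C)} (hS : S.ShortExact) (h₁ : ARSys.IsMLAR S.X₁)
    (h₃ : ARSys.IsMLAR S.X₃) : ARSys.IsMLAR S.X₂ := by
  haveI := hS.epi_g
  obtain ⟨r₁, hr₁⟩ := (isMLAR_iff _).1 h₁
  obtain ⟨r₃, hr₃⟩ := (isMLAR_iff _).1 h₃
  refine (isMLAR_iff _).2 ⟨r₁ + r₃, fun n a b hna hnb hra x => ?_⟩
  have hm : n + r₁ ≤ a := by omega
  let M := max (n + r₁) b
  obtain ⟨w, hw⟩ := hr₃ (n + r₁) a M hm (le_max_left _ _) (by omega) (ev (S.g.app (op a)) x)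
  obtain ⟨v, rfl⟩ := app_surj S.g M w
  rw [← app_tr, ← app_tr] at hw
  obtain ⟨t, ht⟩ := exact_app hS.exact (n + r₁)
    (ev (ARSys.tr S.X₂ hm) x - ev (ARSys.tr S.X₂ (le_max_left (n + r₁) b : n + r₁ ≤ M)) v)
    (by rw [map_sub, hw, sub_self])
  obtain ⟨z₁, hz₁⟩ := hr₁ n (n + r₁) b (Nat.le_add_right _ _) hnb le_rfl t
  refine ⟨ev (ARSys.tr S.X₂ (le_max_right (n + r₁) b : b ≤ M)) v + ev (S.f.app (op b)) z₁, ?_⟩
  rw [map_add, ← app_tr, hz₁, app_tr, ht, map_sub, tr_tr, tr_tr, tr_tr]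
  abel

/-! ### adic systems -/

section Linear

variable {A : Type w} [CommRing A] [Linear A C] {J : Ideal A}

theorem pow_mono (J : Ideal A) {a b : ℕ} (h : a ≤ b) : J ^ b ≤ J ^ a := Ideal.pow_le_pow_right h

theorem adic_strict {X : ARSys.PS C} (hX : ARSys.IsAdic J X) : ARSys.IsStrict X :=
  fun n m h => IsQuot.epi (hX.2 n m h)

theorem adic_vanish {X : ARSys.PS C} (hX : ARSys.IsAdic J X) {a b : ℕ} (h : a ≤ b) {Z : C}
    {φ : X.obj (op b) ⟶ Z} (hφ : ARSys.HomKilledBy (J ^ (a + 1)) φ) {x : El (X.obj (op b))}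
    (hx : ev (ARSys.tr X h) x = 0) : ev φ x = 0 :=
  IsQuot.vanish (hX.2 a b h) hφ hx

theorem isAdic_mk {X : ARSys.PS C} (hk : ARSys.TermKilled J X) (hs : ARSys.IsStrict X)
    (h : ∀ (a b : ℕ) (hab : a ≤ b) (Z : C) (φ : X.obj (op b) ⟶ Z),
      ARSys.HomKilledBy (J ^ (a + 1)) φ → ∀ x, ev (ARSys.tr X hab) x = 0 → ev φ x = 0) :
    ARSys.IsAdic J X :=
  ⟨hk, fun a b hab => IsQuot.mk (strict_surj hs hab) (hk a) fun Z φ hφ => h a b hab Z φ hφ⟩

theorem existsUnique_hom_of_shift {X Y : ARSys.PS C} (hX : ARSys.IsAdic J X)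
    (hY : ARSys.TermKilled J Y) (r : ℕ) (f : (ARSys.shift C r).obj X ⟶ Y) :
    ∃! g : X ⟶ Y, ∀ n : ℕ, f.app (op n) = ARSys.shiftMap X r n ≫ g.app (op n) := by
  choose g hg huniq using fun n =>
    (hX.2 n (n + r) (Nat.le_add_right n r)).2 _ (f.app (op n)) (homKilled_of_killed (hY n) _)
  have hn : ∀ (a b : ℕ) (hab : a ≤ b), ARSys.tr X hab ≫ g a = g b ≫ ARSys.tr Y hab := by
    intro a b hab
    let f' : ∀ m, X.obj (op (m + r)) ⟶ Y.obj (op m) := fun m => f.app (op m)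
    have hf' : ARSys.tr X (Nat.add_le_add_right hab r) ≫ f' a = f' b ≫ ARSys.tr Y hab := nat_tr f hab
    have hg' : ∀ m, ARSys.tr X (Nat.le_add_right m r) ≫ g m = f' m := hg
    haveI : Epi (ARSys.tr X (Nat.le_add_right b r)) := adic_strict hX _ _ _
    rw [← cancel_epi (ARSys.tr X (Nat.le_add_right b r)), reassoc_of% (hg' b), ← hf', ← hg' a,
      tr_comp_assoc, tr_comp_assoc]
  refine ⟨mkHom g hn, fun n => (hg n).symm, fun g' hg' => hom_ext' fun n => ?_⟩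
  exact huniq n _ (hg' n).symm

/-- An isomorphism up to translation whose inverse is natural gives a map of translated systems. -/
def IsInv.hom {X Y : ARSys.PS C} {u : X ⟶ Y} {r : ℕ}
    {ψ : ∀ n, Y.obj (op (n + r)) ⟶ X.obj (op n)} (h : IsInv u r ψ) :
    (ARSys.shift C r).obj Y ⟶ X :=
  mkHom ψ fun a b hab => by
    show ARSys.tr Y (Nat.add_le_add_right hab r) ≫ ψ a = ψ b ≫ ARSys.tr X hab
    exact Groth.L28.Elt.hom_ext fun y => by rw [ev_comp, ev_comp]; exact (h.2.2 a b hab y).symm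

theorem exists_arIso_of_shift {X Y : ARSys.PS C} (kX : ARSys.TermKilled J X) (hY : ARSys.IsAdic J Y)
    (r : ℕ) (v : (ARSys.shift C r).obj Y ⟶ X) (hv : ARSys.IsARIso v) :
    ∃ u : Y ⟶ X, ARSys.IsARIso u := by
  obtain ⟨g, hg, -⟩ := existsUnique_hom_of_shift hY kX r v
  refine ⟨g, isARIso_of_comp_left (u := canShift Y r) ?_ ?_⟩
  · refine (isARIso_iff_elem _).2 ⟨r, fun n x hx => ?_, fun n y => ⟨y, rfl⟩⟩
    have h : ARSys.tr Y (show n + r ≤ n + r + r by omega) = (canShift Y r).app (op (n + r)) := rfl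
    have e : ARSys.tr ((ARSys.shift C r).obj Y) (Nat.le_add_right n r) =
        ARSys.tr Y (show n + r ≤ n + r + r by omega) := rfl
    rw [e, h]; exact hx
  · have : canShift Y r ≫ g = v := hom_ext' fun n => (hg n).symm
    rw [this]; exact hv

/-- Being adic up to translation is transported backwards along isomorphisms up to translation. -/
theorem isARAdic_of_arIso_to {X X' : ARSys.PS C} (kX : ARSys.TermKilled J X) {u : X ⟶ X'}
    (hu : ARSys.IsARIso u) (h : ARSys.IsARAdic J X') : ARSys.IsARAdic J X := by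
  obtain ⟨-, Y, v, hY, hv⟩ := h
  obtain ⟨r, ψ, hψ⟩ := exists_isInv hu
  let f : (ARSys.shift C r).obj Y ⟶ X := (ARSys.shift C r).map v ≫ hψ.hom
  obtain ⟨g, hg, -⟩ := existsUnique_hom_of_shift hY kX r f
  refine ⟨kX, Y, g, hY, ?_⟩
  have hgu : g ≫ u = v := by
    refine hom_ext' fun n => ?_
    haveI : Epi (ARSys.shiftMap Y r n) := adic_strict hY _ _ _
    rw [← cancel_epi (ARSys.shiftMap Y r n), NatTrans.comp_app, ← Category.assoc, ← hg n]
    show (v.app (op (n + r)) ≫ ψ n) ≫ u.app (op n) = ARSys.tr Y (Nat.le_add_right n r) ≫ v.app (op n)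
    refine Groth.L28.Elt.hom_ext fun y => ?_
    rw [ev_comp, ev_comp, hψ.2.1, ← app_tr, ev_comp]
  obtain ⟨t, ht⟩ := (isARIso_iff_elem v).1 hv
  refine (isARIso_iff_elem g).2 ⟨t + r, fun n y hy => ?_, fun n x => ?_⟩
  · have h1 : ev (v.app (op (n + (t + r)))) y = 0 := by
      rw [← hgu, NatTrans.comp_app, ev_comp, hy, map_zero]
    have h2 := ht.1 n (ev (ARSys.tr Y (show n + t ≤ n + (t + r) by omega)) y)
      (by rw [app_tr, h1, map_zero])
    rwa [tr_tr] at h2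
  · obtain ⟨y, hy⟩ := ht.2 (n + r) (ev (u.app (op (n + r + t))) (ev (ARSys.tr X (show n + r + t ≤ n + (t + r) by omega)) x))
    refine ⟨ev (ARSys.tr Y (Nat.le_add_right n r)) y, ?_⟩
    have hgn : v.app (op (n + r)) ≫ ψ n = ARSys.tr Y (Nat.le_add_right n r) ≫ g.app (op n) := hg n
    rw [← ev_comp, ← hgn, ev_comp, hy, ← app_tr, hψ.1, tr_tr, tr_tr]

theorem isARAdic_of_arIso_from {X X' : ARSys.PS C} (kX' : ARSys.TermKilled J X') {u : X ⟶ X'}
    (hu : ARSys.IsARIso u) (h : ARSys.IsARAdic J X) : ARSys.IsARAdic J X' := by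
  obtain ⟨-, Y, v, hY, hv⟩ := h
  exact ⟨kX', Y, v ≫ u, hY, isARIso_comp hv hu⟩

theorem isMLAR_of_isARAdic {X : ARSys.PS C} (h : ARSys.IsARAdic J X) : ARSys.IsMLAR X := by
  obtain ⟨-, Y, v, hY, hv⟩ := h
  obtain ⟨t, -, ht⟩ := (isARIso_iff_elem v).1 hv
  refine (isMLAR_iff X).2 ⟨t, fun n a b hna hnb hta x => ?_⟩
  obtain ⟨y, hy⟩ := ht n (ev (ARSys.tr X hta) x)
  obtain ⟨y', rfl⟩ := strict_surj (adic_strict hY) hnb y
  exact ⟨ev (v.app (op b)) y', by rw [← app_tr, hy, tr_tr]⟩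

end Linear

end Groth.L28.AR
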