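import Groth.Agent.L28.AR.Adic
import Mathlib.RingTheory.Finiteness.Ideal

/-!
Quotients modulo a finitely generated ideal.
-/

set_option autoImplicit false

universe w v u

open CategoryTheory CategoryTheory.Limits

namespace Groth.L28.AR

variable {C : Type u} [Category.{v} C] [Abelian C] {A : Type w} [CommRing A] [Linear A C]

theorem killed_span {s : Set A} {Q : C} (h : ∀ a ∈ s, a • 𝟙 Q = 0) : ARSys.KilledBy (Ideal.span s) Q := by
  intro a ha
  induction ha using Submodule.span_induction with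
  | mem x hx => exact h x hx
  | zero => exact zero_smul A _
  | add x y _ _ hx hy => rw [add_smul, hx, hy, add_zero]
  | smul c x _ hx => rw [smul_eq_mul, mul_smul, hx, smul_zero]

theorem exists_isQuot (G : C → Prop) (hcoker : ∀ {X : C} (f : X ⟶ X), G X → G (cokernel f)) {I : Ideal A}
    (hI : I.FG) (X : C) (hX : G X) : ∃ (Q : C) (p : X ⟶ Q), ARSys.IsQuot I p ∧ G Q := by
  classical
  obtain ⟨s, rfl⟩ := hI
  induction s using Finset.induction_on with
  | empty =>
    refine ⟨X, 𝟙 X, ⟨fun a ha => ?_, fun Y φ _ => ⟨φ, Category.id_comp _, fun ψ h => (Category.id_comp ψ).symm.trans h⟩⟩, hX⟩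
    simp only [Finset.coe_empty, Submodule.span_empty, Submodule.mem_bot] at ha
    rw [ha, zero_smul]
  | insert a s _ ih =>
    obtain ⟨Q, p, ⟨hk, hu⟩, hQ⟩ := ih
    let π := cokernel.π (a • 𝟙 Q)
    refine ⟨cokernel (a • 𝟙 Q), p ≫ π, ⟨?_, fun Y φ hφ => ?_⟩, hcoker _ hQ⟩
    · refine killed_span fun b hb => ?_
      rw [← cancel_epi π, comp_zero, Linear.comp_smul, Category.comp_id]
      rcases Finset.mem_insert.1 hb with rfl | hb
      · calc b • π = (b • 𝟙 Q) ≫ π := by rw [Linear.smul_comp, Category.id_comp]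
          _ = 0 := cokernel.condition _
      · calc b • π = (b • 𝟙 Q) ≫ π := by rw [Linear.smul_comp, Category.id_comp]
          _ = 0 := by rw [hk b (Submodule.subset_span hb), zero_comp]
    · have hsub : Ideal.span (s : Set A) ≤ Ideal.span (↑(insert a s) : Set A) :=
        Ideal.span_mono (by simp)
      obtain ⟨ψ, hψ, huniq⟩ := hu Y φ fun b hb => hφ b (hsub hb)
      have ha : a • φ = 0 := hφ a (Submodule.subset_span (by simp))
      have h0 : (a • 𝟙 Q) ≫ ψ = 0 := by
        obtain ⟨z, -, hz⟩ := hu Y 0 fun b _ => smul_zero b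
        rw [Linear.smul_comp, Category.id_comp]
        exact (hz (a • ψ) (show p ≫ (a • ψ) = 0 by rw [Linear.comp_smul, hψ, ha])).trans (hz 0 comp_zero).symm
      refine ⟨cokernel.desc _ ψ h0, show (p ≫ π) ≫ _ = φ by rw [Category.assoc, cokernel.π_desc, hψ], fun χ hχ => ?_⟩
      rw [← cancel_epi π, cokernel.π_desc]
      exact huniq (π ≫ χ) ((Category.assoc _ _ _).symm.trans hχ)

end Groth.L28.AR
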